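import Cfsg.Agent.Lib.ClassNumSU.Count
import Mathlib.Tactic.NormNum

/-! Numerical estimates for the class number of unitary groups. -/

set_option autoImplicit false

namespace CfsgLib.ClassNumSU

open CfsgLib.ClassNum (geo geo_step)

variable {q : ℕ}

theorem uCount_one (q n : ℕ) (hn : 1 ≤ n) : uCount q 1 n = (q + 1) * q ^ (n - 1) := by
  have h0 : uCount q 0 n = 0 := by
    show (if n = 0 then 1 else 0) = 0
    rw [if_neg (by omega)]
  rw [uCount_succ, h0, Nat.zero_add, geo, Nat.div_one]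
  congr 1
  rw [Finset.sum_eq_single (n - 1)]
  · rw [show n - 1 * (n - 1 + 1) = 0 by omega, uCount_zero_right, mul_one]
  · intro d hd hne
    have h1 : d < n := Finset.mem_range.1 hd
    show q ^ d * (if n - 1 * (d + 1) = 0 then 1 else 0) = 0
    rw [if_neg (by omega), mul_zero]
  · intro h; exact absurd (Finset.mem_range.2 (by omega)) h

theorem uCount_mono (q n : ℕ) {J J' : ℕ} (h : J ≤ J') : uCount q J n ≤ uCount q J' n := by
  induction J', h using Nat.le_induction with
  | base => exact le_rfl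
  | succ k _ ih => exact le_trans ih (by rw [uCount_succ]; exact Nat.le_add_right _ _)

theorem geo_le (f : ℕ → ℕ) {k P Q : ℕ} (hk : 0 < k) (hqk : q ≤ q ^ k)
    (hf : ∀ m, Q * f m ≤ P * q ^ m) : ∀ n, Q * (q ^ k - q) * geo q f k n ≤ P * q ^ n := by
  intro n
  induction n using Nat.strong_induction_on with
  | _ n ih =>
    by_cases h : n < k
    · simp [geo, Nat.div_eq_of_lt h]
    push Not at h
    obtain ⟨m, rfl⟩ := Nat.exists_eq_add_of_le' h
    rw [geo_step q f hk h, Nat.add_sub_cancel]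
    calc Q * (q ^ k - q) * (f m + q * geo q f k m)
        = (q ^ k - q) * (Q * f m) + q * (Q * (q ^ k - q) * geo q f k m) := by ring
      _ ≤ (q ^ k - q) * (P * q ^ m) + q * (P * q ^ m) :=
          Nat.add_le_add (Nat.mul_le_mul_left _ (hf m)) (Nat.mul_le_mul_left _ (ih m (by omega)))
      _ = P * q ^ (m + k) := by
          rw [← Nat.add_mul, Nat.sub_add_cancel hqk, pow_add]; ring

theorem uCount_step (_hq : 1 ≤ q) {J P Q : ℕ} (hJ : ∀ n, Q * uCount q J n ≤ P * q ^ n) :
    ∀ n, Q * (q ^ (J + 1) - q) * uCount q (J + 1) n ≤ P * (q ^ (J + 1) + 1) * q ^ n := by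
  intro n
  have hqk : q ≤ q ^ (J + 1) := Nat.le_self_pow (Nat.succ_ne_zero J) q
  have h2 := geo_le (uCount q J) J.succ_pos hqk hJ n
  rw [uCount_succ]
  calc Q * (q ^ (J + 1) - q) * (uCount q J n + (q + 1) * geo q (uCount q J) (J + 1) n)
      = (q ^ (J + 1) - q) * (Q * uCount q J n) +
          (q + 1) * (Q * (q ^ (J + 1) - q) * geo q (uCount q J) (J + 1) n) := by ring
    _ ≤ (q ^ (J + 1) - q) * (P * q ^ n) + (q + 1) * (P * q ^ n) :=
        Nat.add_le_add (Nat.mul_le_mul_left _ (hJ n)) (Nat.mul_le_mul_left _ h2)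
    _ = P * (q ^ (J + 1) + 1) * q ^ n := by
        rw [← Nat.add_mul, ← Nat.add_assoc (q ^ (J + 1) - q) q 1, Nat.sub_add_cancel hqk]; ring

theorem uCount_one_le (_hq : 1 ≤ q) : ∀ n, q * uCount q 1 n ≤ (q + 1) * q ^ n := by
  intro n
  rcases Nat.eq_zero_or_pos n with rfl | hn
  · simp [uCount_zero_right]
  · obtain ⟨m, rfl⟩ : ∃ m, n = m + 1 := ⟨n - 1, by omega⟩
    rw [uCount_one q _ hn, Nat.add_sub_cancel, pow_succ]
    exact le_of_eq (by ring)

theorem uCount_tail {D A c J0 : ℕ} (hq : 2 ≤ q)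
    (hcond : ∀ N : ℕ, q ≤ N → c ≤ N → (N - c) * (q * N + 1) ≤ (q * N - c) * (N - 1))
    (hJ0 : 1 ≤ J0) (hc : c ≤ q ^ J0)
    (hbase : ∀ n, D * q ^ J0 * uCount q J0 n ≤ A * (q ^ J0 - c) * q ^ n) :
    ∀ J, J0 ≤ J → ∀ n, D * q ^ J * uCount q J n ≤ A * (q ^ J - c) * q ^ n := by
  intro J hJ
  induction J, hJ using Nat.le_induction with
  | base => exact hbase
  | succ k hk ih =>
    intro n
    set N := q ^ k with hN
    have hqN : q ≤ N := Nat.le_self_pow (by omega) q
    have hcN : c ≤ N := le_trans hc (Nat.pow_le_pow_right (by omega) hk)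
    have h1 := uCount_step (q := q) (by omega) ih n
    have hpk : q ^ (k + 1) = q * N := by rw [hN, pow_succ']
    rw [hpk] at h1 ⊢
    have hpos : 0 < N - 1 := by omega
    refine Nat.le_of_mul_le_mul_left ?_ hpos
    have h2 : q * N - q = q * (N - 1) := by rw [Nat.mul_sub, mul_one]
    rw [h2] at h1
    calc (N - 1) * (D * (q * N) * uCount q (k + 1) n)
        = D * N * (q * (N - 1)) * uCount q (k + 1) n := by ring
      _ ≤ A * (N - c) * (q * N + 1) * q ^ n := h1
      _ = A * ((N - c) * (q * N + 1)) * q ^ n := by ring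
      _ ≤ A * ((q * N - c) * (N - 1)) * q ^ n :=
          Nat.mul_le_mul_right _ (Nat.mul_le_mul_left _ (hcond N hqN hcN))
      _ = (N - 1) * (A * (q * N - c) * q ^ n) := by ring

theorem uCount_le_two (n : ℕ) : 100 * uCount 2 n n ≤ 826 * 2 ^ n := by
  have h1 := uCount_one_le (q := 2) (by norm_num)
  have h7 := uCount_step (by norm_num) (uCount_step (by norm_num) (uCount_step (by norm_num)
    (uCount_step (by norm_num) (uCount_step (by norm_num) (uCount_step (q := 2) (by norm_num) h1)))))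
  have hbase : ∀ m, 100 * 2 ^ 7 * uCount 2 7 m ≤ 826 * (2 ^ 7 - 3) * 2 ^ m := by
    intro m
    have h := h7 m
    norm_num at h ⊢
    omega
  have key := uCount_tail (q := 2) (c := 3) le_rfl (fun N hN hcN => by
    obtain ⟨r, rfl⟩ : ∃ r, N = r + 3 := ⟨N - 3, by omega⟩
    rw [show r + 3 - 3 = r by omega, show 2 * (r + 3) - 3 = 2 * r + 3 by omega,
      show r + 3 - 1 = r + 2 by omega]
    have e1 : r * (2 * (r + 3) + 1) = 2 * (r * r) + 7 * r := by ring
    have e2 : (2 * r + 3) * (r + 2) = 2 * (r * r) + 7 * r + 6 := by ring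
    omega) (J0 := 7) (by norm_num) (by norm_num) hbase
  have h := key (max n 7) (le_max_right _ _) n
  refine Nat.le_of_mul_le_mul_left ?_ (pow_pos (two_pos (α := ℕ)) (max n 7))
  calc 2 ^ max n 7 * (100 * uCount 2 n n) ≤ 2 ^ max n 7 * (100 * uCount 2 (max n 7) n) := by
        gcongr
        exact uCount_mono 2 n (le_max_left _ _)
    _ = 100 * 2 ^ max n 7 * uCount 2 (max n 7) n := by ring
    _ ≤ 826 * (2 ^ max n 7 - 3) * 2 ^ n := h
    _ ≤ 826 * 2 ^ max n 7 * 2 ^ n := by gcongr; exact Nat.sub_le _ _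
    _ = 2 ^ max n 7 * (826 * 2 ^ n) := by ring

theorem uCount_le_three (hq : 3 ≤ q) (n : ℕ) : uCount q n n ≤ 3 * q ^ n := by
  have h1 := uCount_step (q := q) (by omega) (uCount_one_le (q := q) (by omega))
  have hbase : ∀ m, 1 * q ^ 2 * uCount q 2 m ≤ 3 * (q ^ 2 - 2) * q ^ m := by
    intro m
    obtain ⟨r, rfl⟩ : ∃ r, q = r + 3 := ⟨q - 3, by omega⟩
    refine Nat.le_of_mul_le_mul_left ?_ (show 0 < r + 2 by omega)
    have hsq : (r + 3) ^ 2 - (r + 3) = (r + 3) * (r + 2) :=
      Nat.sub_eq_of_eq_add (by ring)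
    have hsq2 : (r + 3) ^ 2 - 2 = r * r + 6 * r + 7 := Nat.sub_eq_of_eq_add (by ring)
    have h : (r + 3) * ((r + 3) ^ 2 - (r + 3)) * uCount (r + 3) 2 m ≤
        (r + 3 + 1) * ((r + 3) ^ 2 + 1) * (r + 3) ^ m := h1 m
    rw [hsq] at h
    rw [hsq2]
    calc (r + 2) * (1 * (r + 3) ^ 2 * uCount (r + 3) 2 m)
        = (r + 3) * ((r + 3) * (r + 2)) * uCount (r + 3) 2 m := by ring
      _ ≤ _ := h
      _ ≤ ((r + 2) * (3 * (r * r + 6 * r + 7))) * (r + 3) ^ m :=
          Nat.mul_le_mul_right _ (by nlinarith)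
      _ = _ := by ring
  have key := uCount_tail (q := q) (c := 2) (by omega) (fun N hN hcN => by
    obtain ⟨r, rfl⟩ : ∃ r, N = r + 2 := ⟨N - 2, by omega⟩
    obtain ⟨t, rfl⟩ : ∃ t, q = t + 3 := ⟨q - 3, by omega⟩
    rw [show r + 2 - 2 = r by omega, show r + 2 - 1 = r + 1 by omega,
      show (t + 3) * (r + 2) - 2 = t * r + 2 * t + 3 * r + 4 from Nat.sub_eq_of_eq_add (by ring)]
    have e1 : r * ((t + 3) * (r + 2) + 1) = t * (r * r) + 2 * (t * r) + 3 * (r * r) + 7 * r := by ring
    have e2 : (t * r + 2 * t + 3 * r + 4) * (r + 1) =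
        t * (r * r) + 3 * (t * r) + 2 * t + 3 * (r * r) + 7 * r + 4 := by ring
    omega) (J0 := 2) (by norm_num) (by nlinarith) hbase
  have h := key (max n 2) (le_max_right _ _) n
  refine Nat.le_of_mul_le_mul_left ?_ (pow_pos (show 0 < q by omega) (max n 2))
  calc q ^ max n 2 * uCount q n n ≤ q ^ max n 2 * uCount q (max n 2) n := by
        gcongr
        exact uCount_mono q n (le_max_left _ _)
    _ = 1 * q ^ max n 2 * uCount q (max n 2) n := by ring
    _ ≤ 3 * (q ^ max n 2 - 2) * q ^ n := h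
    _ ≤ 3 * q ^ max n 2 * q ^ n := by gcongr; exact Nat.sub_le _ _
    _ = q ^ max n 2 * (3 * q ^ n) := by ring

theorem sum_sq_sub_le (hq : 3 ≤ q) : ∑ e ∈ Finset.range (q + 2), (e ^ 2 - 1) ≤ q ^ 3 := by
  induction q, hq using Nat.le_induction with
  | base => decide
  | succ k hk ih =>
    rw [Finset.sum_range_succ]
    have e1 : (k + 1) ^ 3 = k ^ 3 + 3 * k ^ 2 + 3 * k + 1 := by ring
    have e2 : (k + 2) ^ 2 = k ^ 2 + 4 * k + 4 := by ring
    have : 3 * k ≤ k ^ 2 := by rw [pow_two]; exact Nat.mul_le_mul_right k hk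
    omega

theorem extra_le_three (hq : 3 ≤ q) {n : ℕ} (hn : 2 ≤ n) :
    ∑ e ∈ (Finset.Icc 2 n).filter (fun e => e ∣ n ∧ e ∣ q + 1),
      (e ^ 2 - 1) * uCount q (n / e) (n / e) ≤ 5 * q ^ n := by
  classical
  set D := (Finset.Icc 2 n).filter (fun e => e ∣ n ∧ e ∣ q + 1)
  have hu : uCount q 1 1 = q + 1 := by rw [uCount_one q 1 le_rfl]; simp
  rcases le_or_gt 6 n with h6 | h6
  · have hT : ∀ e ∈ D, (e ^ 2 - 1) * uCount q (n / e) (n / e) ≤ (e ^ 2 - 1) * (3 * q ^ (n / 2)) := by
      intro e he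
      have he2 := (Finset.mem_Icc.1 (Finset.mem_filter.1 he).1).1
      refine Nat.mul_le_mul_left _ (le_trans (uCount_le_three hq _) ?_)
      exact Nat.mul_le_mul_left _ (Nat.pow_le_pow_right (by omega) (Nat.div_le_div_left he2 (by omega)))
    have hD : D ⊆ Finset.range (q + 2) := fun e he => by
      obtain ⟨-, -, h⟩ := Finset.mem_filter.1 he
      have := Nat.le_of_dvd (by omega) h
      exact Finset.mem_range.2 (by omega)
    calc ∑ e ∈ D, (e ^ 2 - 1) * uCount q (n / e) (n / e)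
        ≤ ∑ e ∈ Finset.range (q + 2), (e ^ 2 - 1) * (3 * q ^ (n / 2)) :=
          le_trans (Finset.sum_le_sum hT) (Finset.sum_le_sum_of_subset hD)
      _ = (∑ e ∈ Finset.range (q + 2), (e ^ 2 - 1)) * (3 * q ^ (n / 2)) := (Finset.sum_mul ..).symm
      _ ≤ q ^ 3 * (3 * q ^ (n / 2)) := by gcongr; exact sum_sq_sub_le hq
      _ = 3 * q ^ (n / 2 + 3) := by rw [pow_add]; ring
      _ ≤ 5 * q ^ n := Nat.mul_le_mul (by norm_num) (Nat.pow_le_pow_right (by omega) (by omega))
  · have hsub : D ⊆ (Finset.Icc 2 n).filter (fun e => e ∣ n) :=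
      fun e he => Finset.mem_filter.2 ⟨(Finset.mem_filter.1 he).1, (Finset.mem_filter.1 he).2.1⟩
    refine le_trans (Finset.sum_le_sum_of_subset hsub) ?_
    have h9 : 9 ≤ q ^ 2 := by nlinarith
    have hq2 : q ≤ q ^ 2 := Nat.le_self_pow (by norm_num) q
    interval_cases n
    · rw [show (Finset.Icc 2 2).filter (fun e => e ∣ 2) = ({2} : Finset ℕ) by decide +kernel, Finset.sum_singleton,
        show 2 / 2 = 1 by norm_num, hu]
      norm_num
      nlinarith
    · rw [show (Finset.Icc 2 3).filter (fun e => e ∣ 3) = ({3} : Finset ℕ) by decide +kernel, Finset.sum_singleton,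
        show 3 / 3 = 1 by norm_num, hu]
      norm_num
      nlinarith
    · rw [show (Finset.Icc 2 4).filter (fun e => e ∣ 4) = ({2, 4} : Finset ℕ) by decide +kernel,
        Finset.sum_pair (by norm_num), show 4 / 4 = 1 by norm_num, hu, show 4 / 2 = 2 by norm_num]
      have h2 := uCount_le_three hq 2
      norm_num
      nlinarith
    · rw [show (Finset.Icc 2 5).filter (fun e => e ∣ 5) = ({5} : Finset ℕ) by decide +kernel, Finset.sum_singleton,
        show 5 / 5 = 1 by norm_num, hu]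
      norm_num
      have h3 : q ^ 2 * q ^ 2 ≤ q ^ 5 := by
        rw [← pow_add]; exact Nat.pow_le_pow_right (by omega) (by norm_num)
      nlinarith

theorem uABound_le (hq : 2 ≤ q) {n : ℕ} (hn : 2 ≤ n) :
    100 * uABound q n ≤ (q + 1) * (826 * q ^ (n - 1)) := by
  classical
  obtain ⟨m, rfl⟩ : ∃ m, n = m + 1 := ⟨n - 1, by omega⟩
  rw [Nat.add_sub_cancel, uABound, Nat.mul_add]
  have hp : q ^ (m + 1) = q * q ^ m := by rw [pow_succ']
  rcases Nat.eq_or_lt_of_le hq with h2 | h3
  · subst h2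
    have hU := uCount_le_two (m + 1)
    set D := (Finset.Icc 2 (m + 1)).filter (fun e => e ∣ m + 1 ∧ e ∣ 2 + 1) with hD
    by_cases h3 : 3 ∣ m + 1
    · have hD3 : D = {3} := by
        ext e
        simp only [hD, Finset.mem_filter, Finset.mem_Icc, Finset.mem_singleton]
        constructor
        · rintro ⟨⟨h1, -⟩, -, h⟩
          have := Nat.le_of_dvd (by norm_num) h
          interval_cases e
          · omega
          · rfl
        · rintro rfl
          have := Nat.le_of_dvd (by omega) h3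
          exact ⟨⟨by norm_num, by omega⟩, h3, dvd_rfl⟩
      rw [hD3, Finset.sum_singleton]
      generalize uCount 2 (m + 1) (m + 1) = U at hU ⊢
      have hU' := uCount_le_two ((m + 1) / 3)
      have hu1 : uCount 2 1 1 = 3 := by rw [uCount_one 2 1 le_rfl]; norm_num
      have hu2 : uCount 2 2 2 = 9 := by decide +kernel
      obtain ⟨k, hk⟩ := h3
      rw [hk, Nat.mul_div_cancel_left k (by norm_num)] at hU' ⊢
      rcases (show k = 1 ∨ k = 2 ∨ 3 ≤ k by omega) with rfl | rfl | hk3
      · obtain rfl : m = 2 := by omega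
        rw [hu1]
        norm_num at hU ⊢
        omega
      · obtain rfl : m = 5 := by omega
        rw [hu2]
        norm_num at hU ⊢
        omega
      · rw [hk] at hU
        have e1 : 16 * 2 ^ k ≤ 2 ^ (3 * k) := by
          rw [show (16 : ℕ) = 2 ^ 4 by norm_num, ← pow_add]
          exact Nat.pow_le_pow_right (by norm_num) (by omega)
        have e2 : 2 ^ (3 * k) = 2 * 2 ^ m := by rw [← hk, pow_succ']
        norm_num
        omega
    · have hD0 : D = ∅ := by
        refine Finset.filter_false_of_mem fun e he h => h3 ?_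
        have := Nat.le_of_dvd (by norm_num) h.2
        have := (Finset.mem_Icc.1 he).1
        interval_cases e
        · omega
        · exact h.1
      rw [hD0, Finset.sum_empty]
      omega
  · have hU := uCount_le_three (q := q) h3 (m + 1)
    have hX := extra_le_three (q := q) h3 hn
    have e : (q + 1) * (826 * q ^ m) = 826 * (q * q ^ m) + 826 * q ^ m := by ring
    omega

end CfsgLib.ClassNumSU
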