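import Cfsg.Agent.Lib.ClassNumSU.Star
import Cfsg.Agent.Lib.ClassNum.Torus

/-! Counting labels of classes of unitary groups. -/

set_option autoImplicit false

namespace CfsgLib.ClassNumSU

open Polynomial
open CfsgLib.ClassNum (geo IsLabel labels mem_labels dTerm eq_one_of_natDegree exists_gcd_eq_sum)

/-- The number of twisted-reversal invariant labels with parts at most `J` and weight `n`. -/
def uCount (q : ℕ) : ℕ → ℕ → ℕ
  | 0, n => if n = 0 then 1 else 0
  | J + 1, n => uCount q J n + (q + 1) * geo q (uCount q J) (J + 1) n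

theorem uCount_succ (q J n : ℕ) :
    uCount q (J + 1) n = uCount q J n + (q + 1) * geo q (uCount q J) (J + 1) n := rfl

theorem uCount_zero_right (q : ℕ) : ∀ J, uCount q J 0 = 1
  | 0 => rfl
  | J + 1 => by simp [uCount_succ, geo, uCount_zero_right q J]

/-- The upper bound for the weighted count. -/
def uABound (q n : ℕ) : ℕ :=
  uCount q n n + ∑ e ∈ (Finset.Icc 2 n).filter (fun e => e ∣ n ∧ e ∣ q + 1),
    (e ^ 2 - 1) * uCount q (n / e) (n / e)

variable {K : Type*} [Field K] [Fintype K] (φ : K →+* K) {q : ℕ}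

open Classical in
/-- Invariant tuples with parts at most `J` and weight `n`. -/
noncomputable def sdBounded : ℕ → ℕ → Finset (ℕ → K[X])
  | 0, n => if n = 0 then {fun _ => 1} else ∅
  | J + 1, n => sdBounded J n ∪ (Finset.range (n / (J + 1))).biUnion fun d =>
      (sdPolys φ d ×ˢ sdBounded J (n - (J + 1) * (d + 1))).image fun x =>
        Function.update x.2 (J + 1) x.1

theorem card_sdBounded_le (hK : Fintype.card K = q ^ 2) (hφq : ∀ x, φ x = x ^ q)
    (hφ : ∀ x, φ (φ x) = x) (hw : ∃ w, φ w ≠ w) :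
    ∀ J n, (sdBounded φ J n).card ≤ uCount q J n
  | 0, n => by
    unfold sdBounded uCount
    split_ifs <;> simp
  | J + 1, n => by
    classical
    rw [sdBounded, uCount_succ]
    refine le_trans (Finset.card_union_le _ _)
      (Nat.add_le_add (card_sdBounded_le hK hφq hφ hw J n) ?_)
    refine le_trans Finset.card_biUnion_le ?_
    rw [geo, Finset.mul_sum]
    refine Finset.sum_le_sum fun d _ => ?_
    refine le_trans Finset.card_image_le ?_
    rw [Finset.card_product, ← mul_assoc]
    exact Nat.mul_le_mul (card_sdPolys_le φ hK hφq hφ hw d) (card_sdBounded_le hK hφq hφ hw J _)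

theorem mem_sdBounded : ∀ (J n : ℕ) (v : ℕ → K[X]), (∀ i, (v i).Monic) →
    (∀ i, (v i).coeff 0 ≠ 0) → (∀ i, sd φ (v i) = v i) → v 0 = 1 → (∀ i, J < i → v i = 1) →
    ∑ i ∈ Finset.range (J + 1), i * (v i).natDegree = n → v ∈ sdBounded φ J n
  | 0, n, v, _, _, _, h0, hb, hw => by
    simp only [zero_add, Finset.sum_range_one, zero_mul] at hw
    subst hw
    rw [sdBounded, if_pos rfl, Finset.mem_singleton]
    funext i
    rcases Nat.eq_zero_or_pos i with rfl | hi
    exacts [h0, hb i hi]
  | J + 1, n, v, hm, hc, hs, h0, hb, hw => by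
    classical
    rw [sdBounded, Finset.mem_union]
    rw [Finset.sum_range_succ] at hw
    by_cases hd : (v (J + 1)).natDegree = 0
    · refine Or.inl (mem_sdBounded J n v hm hc hs h0 (fun i hi => ?_) (by simpa [hd] using hw))
      rcases Nat.eq_or_lt_of_le hi with rfl | hi'
      exacts [eq_one_of_natDegree (hm _) hd, hb i hi']
    · obtain ⟨d, hd'⟩ := Nat.exists_eq_succ_of_ne_zero hd
      rw [hd', Nat.succ_eq_add_one] at hw
      have hdn : d < n / (J + 1) := by
        rw [Nat.lt_iff_add_one_le, Nat.le_div_iff_mul_le J.succ_pos, mul_comm]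
        exact le_trans (Nat.le_add_left _ _) hw.le
      refine Or.inr (Finset.mem_biUnion.2 ⟨d, Finset.mem_range.2 hdn, Finset.mem_image.2
        ⟨(v (J + 1), Function.update v (J + 1) 1), ?_, ?_⟩⟩)
      · refine Finset.mem_product.2 ⟨(mem_sdPolys φ).2 ⟨hm _, hd', hc _, hs _⟩,
          mem_sdBounded J _ _ ?_ ?_ ?_ ?_ ?_ ?_⟩
        · exact fun i => by
            rcases eq_or_ne i (J + 1) with rfl | hi <;> simp [monic_one, hm _, *]
        · exact fun i => by
            rcases eq_or_ne i (J + 1) with rfl | hi <;> simp [hc _, *]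
        · exact fun i => by
            rcases eq_or_ne i (J + 1) with rfl | hi <;> simp [sd_one, hs _, *]
        · simp [h0]
        · intro i hi
          rcases eq_or_ne i (J + 1) with rfl | hi'
          · simp
          · simp [hi', hb i (by omega)]
        · rw [show ∑ i ∈ Finset.range (J + 1), i * (Function.update v (J + 1) 1 i).natDegree =
            ∑ i ∈ Finset.range (J + 1), i * (v i).natDegree from Finset.sum_congr rfl fun i hi => by
              rw [Function.update_of_ne (Finset.mem_range.1 hi).ne]]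
          omega
      · simp

open Classical in
/-- The invariant labels of weight `n`. -/
noncomputable def uLabels (n : ℕ) : Finset (ℕ → K[X]) :=
  (labels K n).filter fun v => ∀ i, sd φ (v i) = v i

theorem mem_uLabels {n : ℕ} {v : ℕ → K[X]} :
    v ∈ uLabels φ n ↔ IsLabel n v ∧ ∀ i, sd φ (v i) = v i := by
  classical
  rw [uLabels, Finset.mem_filter, mem_labels]

theorem card_uLabels_le (hK : Fintype.card K = q ^ 2) (hφq : ∀ x, φ x = x ^ q)
    (hφ : ∀ x, φ (φ x) = x) (hw : ∃ w, φ w ≠ w) (n : ℕ) : (uLabels φ n).card ≤ uCount q n n := by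
  refine le_trans (Finset.card_le_card fun v hv => ?_) (card_sdBounded_le φ hK hφq hφ hw n n)
  obtain ⟨hl, hs⟩ := (mem_uLabels φ).1 hv
  exact mem_sdBounded φ n n v hl.monic hl.coeff_zero hs hl.at_zero hl.at_big hl.weight

open Classical in
/-- The greatest common divisor of `q + 1` and the indices in the support. -/
noncomputable def uE (q n : ℕ) (v : ℕ → K[X]) : ℕ :=
  Nat.gcd (q + 1) (((Finset.range (n + 1)).filter fun i => v i ≠ 1).gcd id)

omit [Fintype K] in
theorem uE_pos (q n : ℕ) (v : ℕ → K[X]) : 0 < uE q n v := Nat.gcd_pos_of_pos_left _ (Nat.succ_pos q)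

omit [Fintype K] in
theorem uE_dvd_succ (q n : ℕ) (v : ℕ → K[X]) : uE q n v ∣ q + 1 := Nat.gcd_dvd_left _ _

omit [Fintype K] in
theorem uE_dvd {n : ℕ} {v : ℕ → K[X]} {i : ℕ} (hi : i ≤ n) (hv : v i ≠ 1) : uE q n v ∣ i := by
  classical
  refine dvd_trans (Nat.gcd_dvd_right _ _) ?_
  exact Finset.gcd_dvd (f := id) (Finset.mem_filter.2 ⟨Finset.mem_range.2 (by omega), hv⟩)

omit [Fintype K] in
theorem uE_dvd_of_label {n : ℕ} {v : ℕ → K[X]} (hv : IsLabel n v) : uE q n v ∣ n := by
  nth_rewrite 2 [← hv.weight]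
  refine Finset.dvd_sum fun i hi => ?_
  by_cases h : v i = 1
  · simp [h]
  · exact dvd_mul_of_dvd_left (uE_dvd (by simpa [Nat.lt_succ_iff] using hi) h) _

theorem sum_sq_le (hK : Fintype.card K = q ^ 2) (hφq : ∀ x, φ x = x ^ q)
    (hφ : ∀ x, φ (φ x) = x) (hw : ∃ w, φ w ≠ w) (n : ℕ) (hn : 1 ≤ n) :
    ∑ v ∈ uLabels φ n, uE q n v ^ 2 ≤ uABound q n := by
  classical
  set D := (Finset.Icc 2 n).filter (fun e => e ∣ n ∧ e ∣ q + 1) with hD
  have hsum : ∑ v ∈ uLabels φ n, uE q n v ^ 2 = (uLabels φ n).card +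
      ∑ e ∈ D, ∑ _v ∈ (uLabels φ n).filter (fun v => uE q n v = e), (e ^ 2 - 1) := by
    have h1 : ∀ v ∈ uLabels φ n,
        uE q n v ^ 2 = 1 + ∑ e ∈ D, if uE q n v = e then e ^ 2 - 1 else 0 := by
      intro v hv
      rw [Finset.sum_ite_eq]
      have hpos := uE_pos q n v
      have hdn := uE_dvd_of_label (q := q) ((mem_uLabels φ).1 hv).1
      split_ifs with h
      · have : 0 < uE q n v ^ 2 := pow_pos hpos 2
        omega
      · have : uE q n v = 1 := by
          by_contra hne
          exact h (Finset.mem_filter.2 ⟨Finset.mem_Icc.2 ⟨by omega, Nat.le_of_dvd hn hdn⟩, hdn,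
            uE_dvd_succ q n v⟩)
        rw [this]; rfl
    rw [Finset.sum_congr rfl h1, Finset.sum_add_distrib, Finset.sum_comm, Finset.card_eq_sum_ones]
    congr 1
    exact Finset.sum_congr rfl fun e _ => (Finset.sum_filter _ _).symm
  rw [hsum]
  refine Nat.add_le_add (card_uLabels_le φ hK hφq hφ hw n) (Finset.sum_le_sum fun e he => ?_)
  rw [Finset.sum_const, smul_eq_mul, mul_comm]
  gcongr
  refine le_trans ?_ (card_uLabels_le φ hK hφq hφ hw (n / e))
  obtain ⟨he2, hen, -⟩ := Finset.mem_filter.1 he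
  have he0 : 0 < e := by have := (Finset.mem_Icc.1 he2).1; omega
  have hsupp : ∀ v : ℕ → K[X], IsLabel n v → uE q n v = e → ∀ i, v i ≠ 1 → e ∣ i := by
    intro v hl heq i hi
    by_cases hin : i ≤ n
    · exact heq ▸ uE_dvd hin hi
    · exact absurd (hl.at_big i (by omega)) hi
  refine Finset.card_le_card_of_injOn (fun v j => v (e * j)) (fun v hv => ?_) ?_
  · obtain ⟨hvl, hve⟩ := Finset.mem_filter.1 hv
    obtain ⟨hl, hs⟩ := (mem_uLabels φ).1 hvl
    refine (mem_uLabels φ).2 ⟨⟨fun i => hl.monic _, fun i => hl.coeff_zero _, by simp [hl.at_zero],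
      fun i hi => hl.at_big _ ?_, ?_⟩, fun i => hs _⟩
    · calc n = e * (n / e) := (Nat.mul_div_cancel' hen).symm
        _ < e * i := (Nat.mul_lt_mul_left he0).2 hi
    · refine Nat.eq_of_mul_eq_mul_left he0 ?_
      rw [Nat.mul_div_cancel' hen, Finset.mul_sum]
      conv_rhs => rw [← hl.weight]
      refine Finset.sum_bij_ne_zero (fun j _ _ => e * j) (fun j hj _ => ?_)
        (fun a _ _ b _ _ h => Nat.eq_of_mul_eq_mul_left he0 h) (fun i hi hne => ?_)
        (fun j _ _ => by ring)
      · have := Nat.mul_le_mul_left e (Nat.lt_succ_iff.1 (Finset.mem_range.1 hj))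
        rw [Nat.mul_div_cancel' hen] at this
        exact Finset.mem_range.2 (by omega)
      · have hvi : v i ≠ 1 := by intro h; rw [h] at hne; simp at hne
        obtain ⟨j, rfl⟩ := hsupp v hl hve i hvi
        refine ⟨j, Finset.mem_range.2 ?_, ?_, rfl⟩
        · have h' := Nat.lt_succ_iff.1 (Finset.mem_range.1 hi)
          exact Nat.lt_succ_iff.2 ((Nat.le_div_iff_mul_le he0).2 (by rwa [mul_comm]))
        · rwa [← mul_assoc]
  · intro v hv w hw h
    obtain ⟨hvl, hve⟩ := Finset.mem_filter.1 hv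
    obtain ⟨hwl, hwe⟩ := Finset.mem_filter.1 hw
    funext i
    by_cases hi : e ∣ i
    · obtain ⟨j, rfl⟩ := hi
      exact congrFun h j
    · have h1 : v i = 1 :=
        by_contra fun h' => hi (hsupp v ((mem_uLabels φ).1 hvl).1 hve i h')
      have h2 : w i = 1 :=
        by_contra fun h' => hi (hsupp w ((mem_uLabels φ).1 hwl).1 hwe i h')
      rw [h1, h2]

theorem sum_uE_le (hK : Fintype.card K = q ^ 2) (hφq : ∀ x, φ x = x ^ q)
    (hφ : ∀ x, φ (φ x) = x) (hw : ∃ w, φ w ≠ w) (n : ℕ) :
    (q + 1) * ∑ v ∈ @Finset.filter _ (fun v => dTerm 1 n v = 1) (Classical.decPred _) (uLabels φ n), uE q n v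
      ≤ ∑ v ∈ uLabels φ n, uE q n v ^ 2 := by
  classical
  set D := (uLabels φ n).filter (fun v => dTerm 1 n v = 1) with hD
  set M := normOne K q with hM
  have hMcard : Nat.card M = q + 1 := card_normOne hK
  let supp : (ℕ → K[X]) → Finset ℕ := fun v => (Finset.range (n + 1)).filter fun i => v i ≠ 1
  have hex : ∀ S : Finset ℕ, ∃ m : ℕ → ℤ, ∀ a : M,
      ∏ i ∈ S, (a ^ m i) ^ i = a ^ Nat.gcd (q + 1) (S.gcd id) := by
    intro S
    obtain ⟨m, hm⟩ := exists_gcd_eq_sum S
    refine ⟨fun i => Nat.gcdB (q + 1) (S.gcd id) * m i, fun a => ?_⟩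
    have hprod : ∀ (f : ℕ → ℤ) (U : Finset ℕ), ∏ i ∈ U, (a ^ f i) ^ i = a ^ ∑ i ∈ U, f i * (i : ℤ) := by
      intro f U
      induction U using Finset.induction_on with
      | empty => simp
      | insert b U hb ih =>
        rw [Finset.prod_insert hb, Finset.sum_insert hb, ih, _root_.zpow_add, _root_.zpow_mul, zpow_natCast]
    rw [hprod, Finset.sum_congr rfl (fun i _ => mul_assoc _ _ _), ← Finset.mul_sum, hm]
    conv_rhs => rw [← zpow_natCast, Nat.gcd_eq_gcd_ab, _root_.zpow_add, _root_.zpow_mul, zpow_natCast,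
      ← hMcard, pow_card_eq_one', one_zpow, one_mul, mul_comm, hMcard]
  choose mexp hmexp using hex
  let root : ℕ → M → M := fun e l => if h : ∃ a : M, a ^ e = l then h.choose else 1
  let t : (ℕ → K[X]) → M → ℕ → M := fun v l i => root (uE q n v) l ^ mexp (supp v) i
  have hts : ∀ a : M, ∃ s : K, s ≠ 0 ∧ φ s * ((a : Kˣ) : K) = s := fun a =>
    CfsgLib.Semisimple.Unitary.exists_hilbert φ hφ hw _ ((mem_normOne φ hφq).1 a.2)
  choose sOf hs0 hsOf using hts
  let scale : (ℕ → K[X]) → M → ℕ → K[X] := fun v l i =>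
    if v i = 1 then 1 else scl (sOf (t v l i)) ((t v l i : Kˣ) : K) (v i)
  let P : (ℕ → K[X]) → Finset M := fun v => Finset.univ.filter fun l => ∃ a : M, a ^ uE q n v = l
  have hP : ∀ v, (P v).card * uE q n v = q + 1 := by
    intro v
    have h : (P v).card = Nat.card (powMonoidHom (uE q n v) : M →* M).range := by
      rw [Nat.card_eq_fintype_card]
      exact (Fintype.card_of_subtype _ (by simp [P, MonoidHom.mem_range])).symm
    rw [h, IsCyclic.card_powMonoidHom_range, hMcard, Nat.gcd_eq_right (uE_dvd_succ q n v),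
      Nat.div_mul_cancel (uE_dvd_succ q n v)]
  have facts : ∀ v ∈ D, ∀ l ∈ P v, scale v l ∈ uLabels φ n ∧ (∀ i, scale v l i = 1 ↔ v i = 1) ∧
      dTerm 1 n (scale v l) = ((l : Kˣ) : K) := by
    intro v hv l hl
    obtain ⟨hvl, hv1⟩ := Finset.mem_filter.1 hv
    obtain ⟨hlab, hsd⟩ := (mem_uLabels φ).1 hvl
    have hdeg : ∀ i, v i ≠ 1 → 0 < (v i).natDegree := fun i hi => Nat.pos_of_ne_zero
      fun h => hi (eq_one_of_natDegree (hlab.monic i) h)
    have hnat : ∀ i, (scale v l i).natDegree = (v i).natDegree := by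
      intro i
      simp only [scale]
      split_ifs with h
      · rw [h]
      · exact (scl_spec (hlab.monic i) (hdeg i h)).2.1
    have hmon : ∀ i, (scale v l i).Monic := by
      intro i
      simp only [scale]
      split_ifs with h
      · exact monic_one
      · exact (scl_spec (hlab.monic i) (hdeg i h)).1
    have hco : ∀ i, v i ≠ 1 → (scale v l i).coeff 0 = ((t v l i : Kˣ) : K) * (v i).coeff 0 := by
      intro i hi
      simp only [scale, if_neg hi]
      exact (scl_spec (hlab.monic i) (hdeg i hi)).2.2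
    have hiff : ∀ i, scale v l i = 1 ↔ v i = 1 := by
      intro i
      refine ⟨fun h => ?_, fun h => by simp [scale, h]⟩
      by_contra hne
      have := hnat i
      rw [h, natDegree_one] at this
      exact absurd this (hdeg i hne).ne
    refine ⟨(mem_uLabels φ).2 ⟨⟨hmon, fun i => ?_, (hiff 0).2 hlab.at_zero,
      fun i hi => (hiff i).2 (hlab.at_big i hi), ?_⟩, fun i => ?_⟩, hiff, ?_⟩
    · by_cases hi : v i = 1
      · rw [(hiff i).2 hi]; simp
      · rw [hco i hi]; exact mul_ne_zero (Units.ne_zero _) (hlab.coeff_zero i)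
    · rw [Finset.sum_congr rfl (fun i _ => by rw [hnat i])]; exact hlab.weight
    · by_cases hi : v i = 1
      · rw [(hiff i).2 hi, sd_one]
      · simp only [scale, if_neg hi]
        exact sd_scl φ (hsOf _) ((mem_normOne φ hφq).1 (t v l i).2) (hlab.monic i) (hdeg i hi)
          (hlab.coeff_zero i) (hsd i)
    · have hstep : dTerm 1 n (scale v l) =
          (∏ i ∈ supp v, ((t v l i : Kˣ) : K) ^ i) * dTerm 1 n v := by
        rw [dTerm, dTerm, Finset.prod_filter, ← Finset.prod_mul_distrib]
        refine Finset.prod_congr rfl fun i _ => ?_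
        rw [hnat i]
        by_cases hi : v i = 1
        · rw [if_neg (not_not.2 hi), (hiff i).2 hi, hi]
          simp
        · rw [if_pos hi, hco i hi, ← mul_pow]
          congr 1
          ring
      rw [hstep, hv1, mul_one]
      have h2 := congrArg (fun u : M => ((u : Kˣ) : K)) (hmexp (supp v) (root (uE q n v) l))
      simp only [SubgroupClass.coe_pow, SubgroupClass.coe_zpow, Subgroup.val_finsetProd, Units.coe_prod,
        Units.val_pow_eq_pow_val] at h2
      simp only [t, SubgroupClass.coe_zpow]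
      rw [h2]
      have hex' : ∃ a : M, a ^ uE q n v = l := (Finset.mem_filter.1 hl).2
      show (((root (uE q n v) l : Kˣ) : K)) ^ uE q n v = ((l : Kˣ) : K)
      simp only [root, dif_pos hex']
      rw [← Units.val_pow_eq_pow_val, ← SubgroupClass.coe_pow, hex'.choose_spec]
  have hinj : Set.InjOn (fun p : (_ : ℕ → K[X]) × M => scale p.1 p.2) (D.sigma P) := by
    rintro ⟨v, l⟩ hp ⟨v', l'⟩ hp' heq
    obtain ⟨hv, hl⟩ := Finset.mem_sigma.1 hp
    obtain ⟨hv', hl'⟩ := Finset.mem_sigma.1 hp'
    dsimp only at heq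
    obtain ⟨-, hiff, hd⟩ := facts v hv l hl
    obtain ⟨-, hiff', hd'⟩ := facts v' hv' l' hl'
    have hl2 : l = l' := Subtype.ext (Units.ext (by rw [← hd, ← hd', heq]))
    subst hl2
    have hs : ∀ i, v i = 1 ↔ v' i = 1 := fun i => by rw [← hiff i, ← hiff' i, heq]
    have hsupp : supp v = supp v' := Finset.filter_congr fun i _ => not_congr (hs i)
    have hee : uE q n v = uE q n v' := by
      show Nat.gcd _ ((supp v).gcd id) = Nat.gcd _ ((supp v').gcd id)
      rw [hsupp]
    have ht : t v l = t v' l := by funext i; simp only [t, hsupp, hee]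
    have hvv : v = v' := by
      funext i
      by_cases hi : v i = 1
      · rw [hi, (hs i).1 hi]
      · have hi' : v' i ≠ 1 := fun h => hi ((hs i).2 h)
        have h3 := congrFun heq i
        simp only [scale, if_neg hi, if_neg hi', ← ht] at h3
        have hlab := ((mem_uLabels φ).1 (Finset.mem_filter.1 hv).1).1
        have hlab' := ((mem_uLabels φ).1 (Finset.mem_filter.1 hv').1).1
        exact scl_injective (hs0 _) (Units.ne_zero _) (hlab.monic i) (hlab'.monic i)
          (Nat.pos_of_ne_zero fun h => hi (eq_one_of_natDegree (hlab.monic i) h))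
          (Nat.pos_of_ne_zero fun h => hi' (eq_one_of_natDegree (hlab'.monic i) h)) h3
    subst hvv
    rfl
  rw [Finset.mul_sum]
  calc ∑ v ∈ D, (q + 1) * uE q n v
      = ∑ p ∈ D.sigma P, uE q n p.1 ^ 2 := by
        rw [Finset.sum_sigma]
        refine Finset.sum_congr rfl fun v _ => ?_
        dsimp only
        rw [Finset.sum_const, smul_eq_mul, ← hP v]
        ring
    _ = ∑ p ∈ D.sigma P, uE q n (scale p.1 p.2) ^ 2 := by
        refine Finset.sum_congr rfl fun p hp => ?_
        obtain ⟨hv, hl⟩ := Finset.mem_sigma.1 hp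
        obtain ⟨-, hiff, -⟩ := facts _ hv _ hl
        show Nat.gcd _ ((supp p.1).gcd id) ^ 2 = Nat.gcd _ ((supp (scale p.1 p.2)).gcd id) ^ 2
        rw [show supp (scale p.1 p.2) = supp p.1 from
          Finset.filter_congr fun i _ => not_congr (hiff i)]
    _ = ∑ u ∈ (D.sigma P).image (fun p => scale p.1 p.2), uE q n u ^ 2 := by
        rw [Finset.sum_image hinj]
    _ ≤ ∑ u ∈ uLabels φ n, uE q n u ^ 2 := by
        refine Finset.sum_le_sum_of_subset (Finset.image_subset_iff.2 fun p hp => ?_)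
        obtain ⟨hv, hl⟩ := Finset.mem_sigma.1 hp
        exact (facts _ hv _ hl).1

end CfsgLib.ClassNumSU
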