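import Cfsg.Agent.Lib.ClassNumSU.Twist
import Cfsg.Agent.Lib.ClassNum.Bound
import Cfsg.Agent.Lib.Conj.Unitary

/-! Labels of unitary matrices, and isometries commuting with them. -/

set_option autoImplicit false
set_option linter.style.haveILetI false

namespace CfsgLib.ClassNumSU

open Polynomial Matrix
open CfsgLib.ClassNum (Decomp lab lab_eq lab_conj exists_decomp)
open CfsgLib.Conj (conjT)

universe u

variable {K : Type u} [Field K] {φ : K →+* K} {n : ℕ} {g : Matrix (Fin n) (Fin n) K}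

theorem twistSD_ne (φ : K →+* K) (D : Decomp g) (hg : g.det ≠ 0) (j : D.ι) :
    (D.p j ^ D.e j).coeff 0 ≠ 0 ∧ (sd φ (D.p j) ^ D.e j).coeff 0 ≠ 0 := by
  rw [← sd_pow]
  have h0 : (D.p j ^ D.e j).coeff 0 ≠ 0 := by
    rw [coeff_zero_eq_eval_zero, eval_pow]
    exact pow_ne_zero _ (by rw [← coeff_zero_eq_eval_zero]; exact D.coeff_zero_ne hg j)
  exact ⟨h0, coeff_zero_sd_ne φ ((D.monic j).pow _) h0⟩

theorem det_ne_zero_of_unitary (hgU : conjT (n := n) φ g * g = 1) : g.det ≠ 0 := fun h => by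
  have := congrArg Matrix.det hgU
  rw [Matrix.det_mul, h, mul_zero, Matrix.det_one] at this
  exact zero_ne_one this

/-- The twist on a component. -/
noncomputable def tw (D : Decomp g) (hg : g.det ≠ 0) (j : D.ι) :
    AdjoinRoot (D.p j ^ D.e j) →+* AdjoinRoot (sd φ (D.p j) ^ D.e j) :=
  twist φ (sd_pow φ (D.p j) (D.e j)) (twistSD_ne φ D hg j).1 (twistSD_ne φ D hg j).2

/-- Its inverse. -/
noncomputable def tw' (D : Decomp g) (hφ : ∀ x, φ (φ x) = x) (hg : g.det ≠ 0) (j : D.ι) :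
    AdjoinRoot (sd φ (D.p j) ^ D.e j) →+* AdjoinRoot (D.p j ^ D.e j) :=
  twist φ (by rw [← sd_pow, sd_sd φ hφ ((D.monic j).pow _) (twistSD_ne φ D hg j).1])
    (twistSD_ne φ D hg j).2 (twistSD_ne φ D hg j).1

/-- The decomposition of the transpose of a unitary matrix. -/
noncomputable def twistDecomp (D : Decomp g) (hφ : ∀ x, φ (φ x) = x)
    (hgU : conjT (n := n) φ g * g = 1) : Decomp gᵀ where
  ι := D.ι
  fin := D.fin
  p j := sd φ (D.p j)
  e := D.e
  monic j := monic_sd φ (D.coeff_zero_ne (det_ne_zero_of_unitary hgU) j)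
  irred j := irreducible_sd φ hφ (D.monic j) (D.coeff_zero_ne (det_ne_zero_of_unitary hgU) j) (D.irred j)
  pos := D.pos
  iso :=
    { toFun := fun x j => tw (φ := φ) D (det_ne_zero_of_unitary hgU) j (D.iso (φ ∘ x) j)
      map_add' := fun x y => funext fun j => by
        have h : (φ ∘ (x + y) : Fin n → K) = φ ∘ x + φ ∘ y := funext fun k => map_add φ _ _
        simp only [h, map_add, Pi.add_apply]
      map_smul' := fun c x => funext fun j => by
        have h : (φ ∘ (c • x) : Fin n → K) = φ c • (φ ∘ x) := funext fun k => map_mul φ _ _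
        simp only [h, map_smul, Pi.smul_apply, tw, twist_smul, hφ, RingHom.id_apply]
      invFun := fun y => φ ∘ D.iso.symm fun j => tw' D hφ (det_ne_zero_of_unitary hgU) j (y j)
      left_inv := fun x => by
        simp only [tw, tw', twist_twist φ _ _ _ hφ]
        funext k
        simp [hφ]
      right_inv := fun y => funext fun j => by
        have h : ∀ v : Fin n → K, (φ ∘ φ ∘ v : Fin n → K) = v := fun v => funext fun k => hφ _
        simp only [h, LinearEquiv.apply_symm_apply, tw, tw', twist_twist φ _ _ _ hφ] }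
  iso_mulVec x j := by
    have h0 := (twistSD_ne φ D (det_ne_zero_of_unitary hgU) j).1
    have hv : (φ ∘ (gᵀ *ᵥ x) : Fin n → K) = conjT (n := n) φ g *ᵥ (φ ∘ x) := by
      funext k
      show φ ((gᵀ *ᵥ x) k) = _
      rw [RingHom.map_mulVec]
      rfl
    have hc : D.iso (conjT (n := n) φ g *ᵥ (φ ∘ x)) j = rinv _ * D.iso (φ ∘ x) j := by
      have h1 := D.iso_mulVec (conjT (n := n) φ g *ᵥ (φ ∘ x)) j
      rw [Matrix.mulVec_mulVec, mul_eq_one_comm.1 hgU, Matrix.one_mulVec] at h1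
      rw [h1, ← mul_assoc, mul_comm (rinv _), root_mul_rinv h0, one_mul]
    show tw (φ := φ) D (det_ne_zero_of_unitary hgU) j (D.iso (φ ∘ (gᵀ *ᵥ x)) j) =
      AdjoinRoot.root _ * tw (φ := φ) D (det_ne_zero_of_unitary hgU) j (D.iso (φ ∘ x) j)
    rw [hv, hc, map_mul, tw, twist_rinv]

theorem lab_transpose (A : GL (Fin n) K) :
    lab ((A : Matrix (Fin n) (Fin n) K)ᵀ) = lab (A : Matrix (Fin n) (Fin n) K) := by
  obtain ⟨c, hc⟩ := CfsgLib.Conj.isConj_transpose_self (A : Matrix (Fin n) (Fin n) K)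
  have h : (c : Matrix (Fin n) (Fin n) K) * (A : Matrix (Fin n) (Fin n) K) *
      ((c⁻¹ : GL (Fin n) K) : Matrix (Fin n) (Fin n) K) = (A : Matrix (Fin n) (Fin n) K)ᵀ := by
    rw [hc.eq, mul_assoc, ← Units.val_mul, mul_inv_cancel, Units.val_one, mul_one]
  rw [← h, lab_conj]

theorem twistDecomp_label (D : Decomp g) (hφ : ∀ x, φ (φ x) = x)
    (hgU : conjT (n := n) φ g * g = 1) (i : ℕ) :
    (twistDecomp D hφ hgU).label i = sd φ (D.label i) := by
  show ∏ j ∈ Finset.univ.filter (fun j => D.e j = i), sd φ (D.p j) = _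
  rw [← sd_prod]
  rfl

theorem label_sd (D : Decomp g) (hφ : ∀ x, φ (φ x) = x) (hgU : conjT (n := n) φ g * g = 1) (i : ℕ) :
    sd φ (D.label i) = D.label i := by
  rw [← twistDecomp_label D hφ hgU i, ← lab_eq (twistDecomp D hφ hgU)]
  exact (congrFun (lab_transpose
    (GeneralLinearGroup.mkOfDetNeZero g (det_ne_zero_of_unitary hgU))) i).trans (congrFun (lab_eq D) i)

theorem exists_pairing (D : Decomp g) (hφ : ∀ x, φ (φ x) = x) (hgU : conjT (n := n) φ g * g = 1) :
    ∃ σ : D.ι ≃ D.ι, ∀ l, sd φ (D.p (σ l)) = D.p l ∧ D.e (σ l) = D.e l := by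
  classical
  set E := twistDecomp D hφ hgU
  have hl : D.label = E.label := funext fun i => by
    rw [twistDecomp_label, label_sd D hφ hgU]
  have hcard : ∀ c : K[X] × ℕ, Fintype.card {j : D.ι // (D.p j, D.e j) = c} =
      Fintype.card {j : E.ι // (E.p j, E.e j) = c} := by
    rintro ⟨f, i⟩
    have h := congrArg (fun v => (UniqueFactorizationMonoid.normalizedFactors (v i)).count f) hl
    simp only [← Decomp.factorsAt_eq, Decomp.count_factorsAt] at h
    rw [Fintype.card_subtype, Fintype.card_subtype]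
    simpa using h
  refine ⟨Equiv.ofFiberEquiv fun c => Fintype.equivOfCardEq (hcard c), fun l => ?_⟩
  have h := Equiv.ofFiberEquiv_map (f := fun j => (D.p j, D.e j)) (g := fun j => (E.p j, E.e j))
    (fun c => Fintype.equivOfCardEq (hcard c)) l
  exact Prod.ext_iff.1 h

theorem exists_pairing_at (D : Decomp g) (hφ : ∀ x, φ (φ x) = x) (hgU : conjT (n := n) φ g * g = 1)
    (j : D.ι) : ∃ π : D.ι ≃ D.ι, (∀ l, sd φ (D.p (π l)) = D.p l ∧ D.e (π l) = D.e l) ∧
      π (π j) = j := by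
  classical
  obtain ⟨σ, hσ⟩ := exists_pairing D hφ hgU
  set a := σ.symm j with ha
  have hσa : σ a = j := σ.apply_symm_apply j
  have hpa : sd φ (D.p j) = D.p a ∧ D.e j = D.e a := by rw [← hσa]; exact hσ a
  have key : ∀ k, D.p k = D.p a → D.e k = D.e a →
      ∀ l, sd φ (D.p ((Equiv.swap k a).trans σ l)) = D.p l ∧ D.e ((Equiv.swap k a).trans σ l) = D.e l := by
    intro k hp he l
    rw [Equiv.trans_apply]
    obtain ⟨h1, h2⟩ := hσ (Equiv.swap k a l)
    rw [h1, h2]
    rcases eq_or_ne l k with rfl | hlk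
    · rw [Equiv.swap_apply_left, hp, he]; exact ⟨rfl, rfl⟩
    rcases eq_or_ne l a with rfl | hla
    · rw [Equiv.swap_apply_right, hp, he]; exact ⟨rfl, rfl⟩
    rw [Equiv.swap_apply_of_ne_of_ne hlk hla]; exact ⟨rfl, rfl⟩
  by_cases hs : sd φ (D.p j) = D.p j
  · refine ⟨(Equiv.swap j a).trans σ, key j (hs.symm.trans hpa.1) hpa.2, ?_⟩
    have h1 : ((Equiv.swap j a).trans σ) j = j := by rw [Equiv.trans_apply, Equiv.swap_apply_left, hσa]
    rw [h1, h1]
  · obtain ⟨hk1, hk2⟩ := hσ j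
    have hg0 := det_ne_zero_of_unitary hgU
    have hpk : D.p (σ j) = D.p a := by
      rw [← hpa.1, ← hk1, sd_sd φ hφ (D.monic _) (D.coeff_zero_ne hg0 _)]
    refine ⟨(Equiv.swap (σ j) a).trans σ, key _ hpk (hk2.trans hpa.2), ?_⟩
    have hne1 : j ≠ σ j := fun e => hs (by rw [← e] at hk1; exact hk1)
    have hne2 : j ≠ a := fun e => hs (by rw [← e] at hpa; exact hpa.1)
    rw [Equiv.trans_apply, Equiv.trans_apply, Equiv.swap_apply_of_ne_of_ne hne1 hne2,
      Equiv.swap_apply_left, hσa]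

section Invariant

variable (hφ : ∀ x, φ (φ x) = x) (hgU : conjT (n := n) φ g * g = 1) (D : Decomp g)
  (π : D.ι ≃ D.ι) (hπ : ∀ l, sd φ (D.p (π l)) = D.p l ∧ D.e (π l) = D.e l)

include hgU

theorem comp_ne (l : D.ι) : (D.p l ^ D.e l).coeff 0 ≠ 0 :=
  (twistSD_ne φ D (det_ne_zero_of_unitary hgU) l).1

/-- The twist between two components. -/
noncomputable def th (a l : D.ι) (h : sd φ (D.p a ^ D.e a) = D.p l ^ D.e l) :
    AdjoinRoot (D.p a ^ D.e a) →+* AdjoinRoot (D.p l ^ D.e l) :=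
  twist φ h (comp_ne hgU D a) (comp_ne hgU D l)

include hπ

omit hgU in
theorem sd_comp (l : D.ι) : sd φ (D.p (π l) ^ D.e (π l)) = D.p l ^ D.e l := by
  rw [sd_pow, (hπ l).1, (hπ l).2]

include hφ

theorem exists_form [Finite K] :
    ∃ S : (Matrix (Fin n) (Fin n) K)ˣ, ∀ u : ∀ l, AdjoinRoot (D.p l ^ D.e l),
      (∀ l, th hgU D (π l) l (sd_comp D π hπ l) (u (π l)) * u l = 1) →
      ∀ U : Matrix (Fin n) (Fin n) K, (∀ x l, D.iso (U *ᵥ x) l = u l * D.iso x l) →
        conjT (n := n) φ U * S * U = S := by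
  classical
  choose lam hlam using fun l => CfsgLib.Conj.exists_frobenius_functional (D.irred l) (D.e l)
  let L : ∀ l, AdjoinRoot (D.p l ^ D.e l) →ₗ[K] K := lam
  have hL : ∀ l u, (∀ r, L l (r * u) = 0) → u = 0 := hlam
  let B : (Fin n → K) →ₛₗ[φ] (Fin n → K) →ₗ[K] K :=
    LinearMap.mk₂'ₛₗ φ (RingHom.id K)
      (fun x y => ∑ l, L l (th hgU D (π l) l (sd_comp D π hπ l) (D.iso x (π l)) * D.iso y l))
      (fun a b c => by simp [add_mul, Finset.sum_add_distrib])
      (fun c a b => by simp [th, twist_smul, Finset.mul_sum])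
      (fun a b c => by simp [mul_add, Finset.sum_add_distrib])
      (fun c a b => by simp [Finset.mul_sum])
  let S : Matrix (Fin n) (Fin n) K := Matrix.of fun a b => B (Pi.single a 1) (Pi.single b 1)
  have hBS : ∀ x y : Fin n → K, B x y = (φ ∘ x) ⬝ᵥ (S *ᵥ y) := by
    intro x y
    conv_lhs => rw [pi_eq_sum_univ' x, pi_eq_sum_univ' y]
    simp only [map_sum, LinearMap.map_smulₛₗ, LinearMap.sum_apply, LinearMap.smul_apply,
      RingHom.id_apply, smul_eq_mul, dotProduct, Matrix.mulVec, S, Matrix.of_apply, Function.comp_apply,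
      Finset.mul_sum]
    rw [Finset.sum_comm]
    exact Finset.sum_congr rfl fun a _ => Finset.sum_congr rfl fun b _ => by ring
  have hS : IsUnit S := by
    rw [← Matrix.mulVec_injective_iff_isUnit, ← Matrix.coe_mulVecLin, ← LinearMap.ker_eq_bot,
      Submodule.eq_bot_iff]
    intro y hy
    rw [LinearMap.mem_ker, Matrix.mulVecLin_apply] at hy
    have h0 : ∀ x, B x y = 0 := fun x => by rw [hBS, hy, dotProduct_zero]
    apply D.iso.injective
    rw [map_zero]
    funext l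
    refine hL l _ fun r => ?_
    obtain ⟨r', rfl⟩ := twist_surjective φ (sd_comp D π hπ l) (comp_ne hgU D (π l)) (comp_ne hgU D l)
      hφ ((D.monic _).pow _) r
    have h1 := h0 (D.iso.symm (Pi.single (π l) r'))
    simp only [B, LinearMap.mk₂'ₛₗ_apply, LinearEquiv.apply_symm_apply] at h1
    rw [Finset.sum_eq_single l] at h1
    · rw [Pi.single_eq_same] at h1; exact h1
    · intro m _ hm
      rw [Pi.single_eq_of_ne (fun h => hm (π.injective h)), map_zero, zero_mul, map_zero]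
    · simp
  refine ⟨hS.unit, fun u hu U hU => ?_⟩
  have hinv : ∀ x y, B (U *ᵥ x) (U *ᵥ y) = B x y := by
    intro x y
    simp only [B, LinearMap.mk₂'ₛₗ_apply]
    refine Finset.sum_congr rfl fun l _ => congrArg (L l) ?_
    rw [hU, hU, map_mul]
    linear_combination (th hgU D (π l) l (sd_comp D π hπ l) (D.iso x (π l)) * D.iso y l) * hu l
  rw [IsUnit.unit_spec]
  ext a b
  have h1 := hinv (Pi.single a 1) (Pi.single b 1)
  rw [hBS, Matrix.mulVec_single_one, Matrix.mulVec_single_one] at h1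
  rw [mul_assoc, Matrix.mul_apply]
  refine Eq.trans ?_ h1
  rfl

theorem exists_sol [Finite K] {j : D.ι} (hj : π (π j) = j) (z : K) (hz : z ≠ 0) :
    ∃ u : ∀ l, AdjoinRoot (D.p l ^ D.e l),
      (∀ l, th hgU D (π l) l (sd_comp D π hπ l) (u (π l)) * u l = 1) ∧
      ∏ l, Algebra.norm K (u l) = (z / φ z) ^ D.e j := by
  classical
  haveI : ∀ l, FiniteDimensional K (AdjoinRoot (D.p l ^ D.e l)) := fun l =>
    ClassNum.finiteDimensional_adjoinRoot ((D.monic l).pow _)
  haveI : ∀ l, Finite (AdjoinRoot (D.p l ^ D.e l)) := fun l => Module.finite_of_finite K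
  obtain ⟨h, hh⟩ := ClassNum.exists_det_mulBy_eq (D.monic j) (D.irred j) (D.e j) z
  rw [ClassNum.det_mulBy_eq_norm] at hh
  set b₀ := AdjoinRoot.mk (D.p j ^ D.e j) h
  have hbu : IsUnit b₀ := by
    refine isUnit_iff_exists_inv.2 ?_
    have hne : LinearMap.det (LinearMap.mulLeft K b₀) ≠ 0 := by
      have e : LinearMap.det (LinearMap.mulLeft K b₀) = Algebra.norm K b₀ := rfl
      rw [e, hh]; exact pow_ne_zero _ hz
    obtain ⟨c, hc⟩ := LinearMap.surjective_of_injective
      (LinearMap.ker_eq_bot.1 (by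
        by_contra hker
        exact hne (LinearMap.det_eq_zero_iff_ker_ne_bot.2 hker))) (1 : AdjoinRoot (D.p j ^ D.e j))
    exact ⟨c, hc⟩
  set b := hbu.unit with hb
  have hbn : Algebra.norm K (b : AdjoinRoot (D.p j ^ D.e j)) = z ^ D.e j := hh
  obtain ⟨k, hk⟩ : ∃ k, π j = k := ⟨_, rfl⟩
  have hk' : π k = j := hk ▸ hj
  have hjl : sd φ (D.p j ^ D.e j) = D.p k ^ D.e k := by
    have := sd_comp D π hπ k; rwa [hk'] at this
  set c := Units.map (th hgU D j k hjl).toMonoidHom b⁻¹ with hcdef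
  have hcn : Algebra.norm K (c : AdjoinRoot (D.p k ^ D.e k)) = (φ z ^ D.e j)⁻¹ := by
    rw [hcdef]
    show Algebra.norm K (twist φ _ _ _ ((b⁻¹ : (AdjoinRoot (D.p j ^ D.e j))ˣ) : AdjoinRoot (D.p j ^ D.e j))) = _
    rw [norm_twist φ _ _ _ ((D.monic j).pow _), map_units_inv, hbn, map_inv₀, map_pow]
  let u : ∀ l, AdjoinRoot (D.p l ^ D.e l) :=
    (Pi.mulSingle j (b : AdjoinRoot (D.p j ^ D.e j)) : ∀ l, AdjoinRoot (D.p l ^ D.e l)) *
      (Pi.mulSingle k (c : AdjoinRoot (D.p k ^ D.e k)) : ∀ l, AdjoinRoot (D.p l ^ D.e l))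
  refine ⟨u, ?_, ?_⟩
  · have hB : th hgU D j k hjl (b : AdjoinRoot (D.p j ^ D.e j)) * (c : AdjoinRoot (D.p k ^ D.e k)) = 1 := by
      rw [hcdef]
      show th hgU D j k hjl (b : AdjoinRoot (D.p j ^ D.e j)) * th hgU D j k hjl ((b⁻¹ : (AdjoinRoot (D.p j ^ D.e j))ˣ) : AdjoinRoot (D.p j ^ D.e j)) = 1
      rw [← map_mul, Units.mul_inv, map_one]
    have hA : ∀ hal' : sd φ (D.p k ^ D.e k) = D.p j ^ D.e j,
        th hgU D k j hal' (c : AdjoinRoot (D.p k ^ D.e k)) * (b : AdjoinRoot (D.p j ^ D.e j)) = 1 := by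
      intro hal'
      rw [hcdef]
      show twist φ hal' _ _ (twist φ hjl _ _ ((b⁻¹ : (AdjoinRoot (D.p j ^ D.e j))ˣ) : AdjoinRoot (D.p j ^ D.e j))) * (b : AdjoinRoot (D.p j ^ D.e j)) = 1
      rw [twist_twist φ _ _ _ hφ, Units.inv_mul]
    have key : ∀ (l a : D.ι) (hal : sd φ (D.p a ^ D.e a) = D.p l ^ D.e l), a = π l →
        th hgU D a l hal (u a) * u l = 1 := by
      intro l a hal ea
      rcases eq_or_ne l j with hlj | hlj
      · have hak : a = k := by rw [ea, hlj, hk]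
        subst hlj hak
        have h2 := hA hal
        clear_value c
        rcases eq_or_ne a l with hs | hs
        · subst hs
          simp only [u, Pi.mul_apply, Pi.mulSingle_eq_same, map_mul]
          linear_combination (th hgU D a a hal (c : AdjoinRoot (D.p a ^ D.e a)) * (b : AdjoinRoot (D.p a ^ D.e a))) * hB + h2
        · simp [u, Pi.mulSingle_eq_of_ne hs, Pi.mulSingle_eq_of_ne hs.symm, h2]
      · rcases eq_or_ne l k with hlk | hlk
        · have haj : a = j := by rw [ea, hlk, hk']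
          subst hlk haj
          simp [u, Pi.mulSingle_eq_of_ne hlj, Pi.mulSingle_eq_of_ne hlj.symm, hB]
        · have hak : a ≠ k := fun e => hlj (π.injective (by rw [hk, ← e, ea]))
          have haj : a ≠ j := fun e => hlk (π.injective (by rw [hk', ← e, ea]))
          simp [u, Pi.mulSingle_eq_of_ne haj, Pi.mulSingle_eq_of_ne hak, Pi.mulSingle_eq_of_ne hlj,
            Pi.mulSingle_eq_of_ne hlk]
    exact fun l => key l (π l) (sd_comp D π hπ l) rfl
  · simp only [u, Pi.mul_apply, map_mul]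
    rw [Finset.prod_mul_distrib,
      Fintype.prod_eq_single j (fun l hl => by rw [Pi.mulSingle_eq_of_ne hl, map_one]),
      Fintype.prod_eq_single k (fun l hl => by rw [Pi.mulSingle_eq_of_ne hl, map_one]),
      Pi.mulSingle_eq_same, Pi.mulSingle_eq_same, hbn, hcn, div_pow, div_eq_mul_inv]

end Invariant

end CfsgLib.ClassNumSU
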