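import Cfsg.Agent.Lib.ClassNumSU.Label
import Cfsg.Agent.Lib.ClassNumSU.Arith
import Cfsg.Prelude.Def_Classical

/-! The number of classes of `SU(n, q)`. -/

set_option autoImplicit false
set_option linter.style.haveILetI false

namespace CfsgLib.ClassNumSU

open Polynomial Matrix
open CfsgLib.ClassNum (Decomp lab lab_eq lab_conj lab_isLabel exists_decomp exists_conj_of_lab_eq mem_labels dTerm dTerm_lab)
open CfsgLib.Conj (conjT)

universe u

variable {K : Type u} [Field K] [Fintype K] {φ : K →+* K} {n q : ℕ}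

/-- Matrices preserving a given invertible form can be made unitary simultaneously. -/
theorem exists_conj_unitary_of_form (hφ : ∀ x, φ (φ x) = x) (hw : ∃ w, φ w ≠ w)
    (S : (Matrix (Fin n) (Fin n) K)ˣ) :
    ∃ g : (Matrix (Fin n) (Fin n) K)ˣ, ∀ A : (Matrix (Fin n) (Fin n) K)ˣ,
      conjT (n := n) φ (A : Matrix (Fin n) (Fin n) K) * S * A = S →
      conjT (n := n) φ ((g * A * g⁻¹ : (Matrix (Fin n) (Fin n) K)ˣ) : Matrix (Fin n) (Fin n) K) *
        (g * A * g⁻¹ : (Matrix (Fin n) (Fin n) K)ˣ) = 1 := by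
  classical
  let ct : (Matrix (Fin n) (Fin n) K)ˣ → (Matrix (Fin n) (Fin n) K)ˣ := fun u =>
    ⟨conjT (n := n) φ u, conjT (n := n) φ ↑u⁻¹,
      by rw [← Conj.conjT_mul, ← Units.val_mul, inv_mul_cancel, Units.val_one, Conj.conjT_one],
      Conj.conjT_units φ u⟩
  have ctm : ∀ u v, ct (u * v) = ct v * ct u := fun u v => Units.ext (Conj.conjT_mul φ _ _)
  have ctct : ∀ u, ct (ct u) = u := fun u => Units.ext (Conj.conjT_conjT (n := n) φ hφ _)
  have ctinv : ∀ u, ct u⁻¹ = (ct u)⁻¹ := fun u => rfl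
  let T := S⁻¹ * ct S
  let τ : Matrix (Fin n) (Fin n) K →+ Matrix (Fin n) (Fin n) K :=
    (AddMonoidHom.mulLeft (↑S⁻¹ : Matrix (Fin n) (Fin n) K)).comp
      ((AddMonoidHom.mulRight (↑S : Matrix (Fin n) (Fin n) K)).comp (conjT (n := n) φ))
  have τ_def : ∀ X, τ X = (↑S⁻¹ : Matrix (Fin n) (Fin n) K) *
      (conjT (n := n) φ X * (S : Matrix (Fin n) (Fin n) K)) := fun X => rfl
  have hmul : ∀ a b, τ (a * b) = τ b * τ a := fun a b => by
    simp only [τ_def, Conj.conjT_mul, mul_assoc]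
    rw [← mul_assoc (S : Matrix (Fin n) (Fin n) K), ← Units.val_mul, mul_inv_cancel, Units.val_one, one_mul]
  have hsc : ∀ c, τ (algebraMap K _ c) = algebraMap K _ (φ c) := fun c => by
    rw [τ_def, Conj.conjT_algebraMap, Algebra.commutes, ← mul_assoc, ← Units.val_mul, inv_mul_cancel,
      Units.val_one, one_mul]
  have hτT : τ T = ↑T⁻¹ := by
    have : S⁻¹ * (ct T * S) = T⁻¹ := by
      simp only [T, ctm, ctct, ctinv]; group
    exact congrArg Units.val this
  have hTinv : (↑T⁻¹ : Matrix (Fin n) (Fin n) K) ∈ Algebra.adjoin K {(T : Matrix (Fin n) (Fin n) K)} := by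
    obtain ⟨k, hk⟩ : ∃ k : ℕ, T ^ k = T⁻¹ :=
      mem_powers_iff_mem_zpowers.mpr (Subgroup.inv_mem _ (Subgroup.mem_zpowers T))
    rw [← hk, Units.val_pow_eq_pow_val]
    exact pow_mem (Algebra.self_mem_adjoin_singleton K _) k
  have hinv : ∀ a ∈ Algebra.adjoin K {(T : Matrix (Fin n) (Fin n) K)}, τ (τ a) = a := by
    intro a ha
    induction ha using Algebra.adjoin_induction with
    | mem x hx =>
      rw [Set.mem_singleton_iff] at hx
      subst hx
      rw [hτT]
      have : S⁻¹ * (ct T⁻¹ * S) = T := by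
        simp only [T, ctm, ctct, ctinv, _root_.mul_inv_rev, inv_inv]; group
      exact congrArg Units.val this
    | algebraMap r => rw [hsc, hsc, hφ]
    | add x y _ _ hx hy => rw [map_add, map_add, hx, hy]
    | mul x y _ _ hx hy => rw [hmul, hmul, hx, hy]
  obtain ⟨w, hw'⟩ := hw
  obtain ⟨y, hyS, hyu, hy⟩ := (Conj.adjoin_singleton_norm φ τ hmul hsc hw'
    (Z := (T : Matrix (Fin n) (Fin n) K)) (hτT ▸ hTinv) hinv).1 T (Algebra.self_mem_adjoin_singleton K _)
    (by rw [hτT, ← Units.val_mul, mul_inv_cancel, Units.val_one])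
  let Y := hyu.unit
  have hY : T * (S⁻¹ * (ct Y * S)) = Y := Units.ext hy
  have hcY : ct Y * S = S * T⁻¹ * Y := by
    calc ct Y * S = S * T⁻¹ * (T * (S⁻¹ * (ct Y * S))) := by group
      _ = S * T⁻¹ * Y := by rw [hY]
  have hYT : Y * T = T * Y :=
    Units.ext (Conj.commute_of_mem_adjoin_singleton hyS (Algebra.self_mem_adjoin_singleton K _))
  have hctS : ct S = S * T := by show ct S = S * (S⁻¹ * ct S); group
  let H := S * Y
  have hH : ct H = H := by
    show ct (S * Y) = S * Y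
    rw [ctm]
    calc ct Y * ct S = (ct Y * S) * T := by rw [hctS, mul_assoc]
      _ = S * T⁻¹ * (Y * T) := by rw [hcY]; group
      _ = S * Y := by rw [hYT]; group
  obtain ⟨g, -, hg⟩ := Conj.exists_conjT_mul_self φ hφ ⟨w, hw'⟩ H (congrArg Units.val hH)
  refine ⟨g, fun A hS => ?_⟩
  have hS' : ct A * S * A = S := Units.ext hS
  have hS'' : ct A * ct S * A = ct S := by
    have := congrArg ct hS'
    rw [ctm, ctm, ctct, ← mul_assoc] at this
    exact this
  have hTA : T * A = A * T := by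
    show S⁻¹ * ct S * A = A * (S⁻¹ * ct S)
    have h1 : S⁻¹ = A⁻¹ * S⁻¹ * (ct A)⁻¹ := by
      conv_lhs => rw [← hS']
      group
    calc S⁻¹ * ct S * A = S⁻¹ * (ct A)⁻¹ * (ct A * ct S * A) := by group
      _ = S⁻¹ * (ct A)⁻¹ * ct S := by rw [hS'']
      _ = A * (A⁻¹ * S⁻¹ * (ct A)⁻¹) * ct S := by group
      _ = A * (S⁻¹ * ct S) := by rw [← h1, mul_assoc]
  have hYA : Y * A = A * Y :=
    Units.ext (Conj.commute_adjoin_singleton (congrArg Units.val hTA) hyS)
  have hHA : ct A * H * A = H := by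
    show ct A * (S * Y) * A = S * Y
    calc ct A * (S * Y) * A = ct A * S * (Y * A) := by group
      _ = (ct A * S * A) * Y := by rw [hYA]; group
      _ = S * Y := by rw [hS']
  have hg' : ct g * g = H := Units.ext hg
  have : ct (g * A * g⁻¹) * (g * A * g⁻¹) = 1 := by
    calc ct (g * A * g⁻¹) * (g * A * g⁻¹) = (ct g)⁻¹ * (ct A * (ct g * g) * A) * g⁻¹ := by
          rw [ctm, ctm, ctinv]; group
      _ = (ct g)⁻¹ * (ct g * g) * g⁻¹ := by rw [hg', hHA]
      _ = 1 := by group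
  exact congrArg Units.val this

variable (hφq : ∀ x, φ x = x ^ q) (hφ : ∀ x, φ (φ x) = x) (hw : ∃ w, φ w ≠ w)

include hφq hφ hw

/-- The centraliser of a unitary matrix in the unitary group has determinants the `i`-th powers of
the norm one scalars, for each part `i` of its label. -/
theorem exists_unitary_commute_det (g : GL (Fin n) K)
    (hgU : conjT (n := n) φ (g : Matrix (Fin n) (Fin n) K) * g = 1) {i : ℕ}
    (hi : lab (g : Matrix (Fin n) (Fin n) K) i ≠ 1) (a : normOne K q) :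
    ∃ C : GL (Fin n) K, conjT (n := n) φ (C : Matrix (Fin n) (Fin n) K) * C = 1 ∧ C * g = g * C ∧
      Matrix.GeneralLinearGroup.det C = (a : Kˣ) ^ i := by
  classical
  set D := (exists_decomp (g : Matrix (Fin n) (Fin n) K)).some with hD
  have hlab : lab (g : Matrix (Fin n) (Fin n) K) = D.label := lab_eq D
  rw [hlab] at hi
  obtain ⟨j, -, hj⟩ : ∃ j ∈ (Finset.univ : Finset D.ι), D.e j = i := by
    by_contra h
    push Not at h
    exact hi (by unfold Decomp.label; rw [Finset.filter_false_of_mem h, Finset.prod_empty])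
  obtain ⟨π, hπ, hjj⟩ := exists_pairing_at D hφ hgU j
  obtain ⟨z, hz0, hz⟩ := Semisimple.Unitary.exists_hilbert φ hφ hw _ ((mem_normOne φ hφq).1 a.2)
  obtain ⟨S, hS⟩ := exists_form hφ hgU D π hπ
  obtain ⟨u, hu, hdet⟩ := exists_sol hφ hgU D π hπ hjj z hz0
  let L : (Fin n → K) →ₗ[K] (Fin n → K) := D.iso.symm.toLinearMap ∘ₗ
    ClassNum.piEnd (fun l => LinearMap.mulLeft K (u l)) ∘ₗ D.iso.toLinearMap
  let U : Matrix (Fin n) (Fin n) K := LinearMap.toMatrix' L
  have hUx : ∀ x l, D.iso (U *ᵥ x) l = u l * D.iso x l := by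
    intro x l
    show D.iso ((LinearMap.toMatrix' L) *ᵥ x) l = _
    rw [← Matrix.toLin'_apply, Matrix.toLin'_toMatrix']
    simp [L]
  haveI : ∀ l, FiniteDimensional K (AdjoinRoot (D.p l ^ D.e l)) := fun l =>
    ClassNum.finiteDimensional_adjoinRoot ((D.monic l).pow _)
  have hzφ : z / φ z = ((a : Kˣ) : K) := by
    rw [div_eq_iff ((map_ne_zero φ).2 hz0), mul_comm, hz]
  have hUdet : U.det = ((a : Kˣ) : K) ^ i := by
    show (LinearMap.toMatrix' L).det = _
    have h1 : LinearMap.det L = LinearMap.det (ClassNum.piEnd fun l => LinearMap.mulLeft K (u l)) :=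
      LinearMap.det_conj _ D.iso.symm
    rw [LinearMap.det_toMatrix', h1, ClassNum.det_piEnd, ← hzφ, ← hj, ← hdet]
    exact Finset.prod_congr rfl fun l _ => rfl
  let Uu : GL (Fin n) K :=
    Matrix.GeneralLinearGroup.mkOfDetNeZero U (by rw [hUdet]; exact pow_ne_zero _ (Units.ne_zero _))
  have hUS : conjT (n := n) φ (Uu : Matrix (Fin n) (Fin n) K) * S * Uu = S := hS u hu U hUx
  have hgS : conjT (n := n) φ (g : Matrix (Fin n) (Fin n) K) * S * g = S := by
    refine hS (fun l => AdjoinRoot.root (D.p l ^ D.e l)) (fun l => ?_) _ (fun x l => D.iso_mulVec x l)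
    show twist φ _ _ _ (AdjoinRoot.root _) * _ = 1
    rw [twist_root, mul_comm]
    exact root_mul_rinv (comp_ne hgU D l)
  obtain ⟨P, hP⟩ := exists_conj_unitary_of_form hφ hw S
  obtain ⟨h, hh1, hh2⟩ := Conj.exists_unitary_conj φ hφ hw (P * g * P⁻¹) g P⁻¹ (hP g hgS) hgU
    (by group)
  have hcomm : Uu * g = g * Uu := by
    refine Units.ext ?_
    apply Matrix.toLin'.injective
    refine LinearMap.ext fun x => D.iso.injective (funext fun l => ?_)
    show D.iso (Matrix.toLin' (U * (g : Matrix (Fin n) (Fin n) K)) x) l =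
      D.iso (Matrix.toLin' ((g : Matrix (Fin n) (Fin n) K) * U) x) l
    rw [Matrix.toLin'_mul, Matrix.toLin'_mul, LinearMap.comp_apply, LinearMap.comp_apply,
      Matrix.toLin'_apply, Matrix.toLin'_apply, Matrix.toLin'_apply, Matrix.toLin'_apply, hUx,
      D.iso_mulVec, D.iso_mulVec, hUx]
    ring
  refine ⟨h * (P * Uu * P⁻¹) * h⁻¹, ?_, ?_, ?_⟩
  · have hgu := hP Uu hUS
    set V := P * Uu * P⁻¹
    have hhi : conjT (n := n) φ ((h⁻¹ : GL (Fin n) K) : Matrix (Fin n) (Fin n) K) =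
        (h : Matrix (Fin n) (Fin n) K) := by
      have h1 : (h : Matrix (Fin n) (Fin n) K) * conjT (n := n) φ (h : Matrix (Fin n) (Fin n) K) = 1 :=
        mul_eq_one_comm.1 hh1
      calc conjT (n := n) φ ((h⁻¹ : GL (Fin n) K) : Matrix (Fin n) (Fin n) K)
          = (h : Matrix (Fin n) (Fin n) K) * conjT (n := n) φ (h : Matrix (Fin n) (Fin n) K) *
              conjT (n := n) φ ((h⁻¹ : GL (Fin n) K) : Matrix (Fin n) (Fin n) K) := by rw [h1, one_mul]
        _ = (h : Matrix (Fin n) (Fin n) K) := by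
            rw [mul_assoc, ← Conj.conjT_mul, ← Units.val_mul, inv_mul_cancel, Units.val_one,
              Conj.conjT_one, mul_one]
    rw [Units.val_mul, Units.val_mul, Conj.conjT_mul, Conj.conjT_mul, hhi]
    calc (h : Matrix (Fin n) (Fin n) K) * (conjT (n := n) φ (V : Matrix (Fin n) (Fin n) K) *
          conjT (n := n) φ (h : Matrix (Fin n) (Fin n) K)) *
          ((h : Matrix (Fin n) (Fin n) K) * (V : Matrix (Fin n) (Fin n) K) *
            ((h⁻¹ : GL (Fin n) K) : Matrix (Fin n) (Fin n) K))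
        = (h : Matrix (Fin n) (Fin n) K) * conjT (n := n) φ (V : Matrix (Fin n) (Fin n) K) *
          (conjT (n := n) φ (h : Matrix (Fin n) (Fin n) K) * (h : Matrix (Fin n) (Fin n) K)) *
          (V : Matrix (Fin n) (Fin n) K) * ((h⁻¹ : GL (Fin n) K) : Matrix (Fin n) (Fin n) K) := by
          simp only [mul_assoc]
      _ = (h : Matrix (Fin n) (Fin n) K) *
          (conjT (n := n) φ (V : Matrix (Fin n) (Fin n) K) * (V : Matrix (Fin n) (Fin n) K)) *
            ((h⁻¹ : GL (Fin n) K) : Matrix (Fin n) (Fin n) K) := by rw [hh1, mul_one]; simp only [mul_assoc]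
      _ = 1 := by rw [hgu, mul_one, ← Units.val_mul, mul_inv_cancel, Units.val_one]
  · calc h * (P * Uu * P⁻¹) * h⁻¹ * g = h * (P * Uu * P⁻¹) * h⁻¹ * (g * h) * h⁻¹ := by group
      _ = h * (P * Uu * P⁻¹) * h⁻¹ * (h * (P * g * P⁻¹)) * h⁻¹ := by rw [hh2]
      _ = h * P * (Uu * g) * P⁻¹ * h⁻¹ := by group
      _ = h * P * (g * Uu) * P⁻¹ * h⁻¹ := by rw [hcomm]
      _ = (h * (P * g * P⁻¹)) * (P * Uu * P⁻¹) * h⁻¹ := by group
      _ = g * h * (P * Uu * P⁻¹) * h⁻¹ := by rw [hh2]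
      _ = g * (h * (P * Uu * P⁻¹) * h⁻¹) := by group
  · rw [map_mul, map_mul, map_mul, map_mul, map_inv, map_inv, mul_inv_cancel_comm, mul_inv_cancel_comm]
    exact Units.ext (by rw [Units.val_pow_eq_pow_val, ← hUdet]; rfl)

omit hφ hw [Fintype K] in
/-- The label of a class of `SU`. -/
theorem det_mem_normOne (g : GL (Fin n) K)
    (hgU : conjT (n := n) φ (g : Matrix (Fin n) (Fin n) K) * g = 1) :
    Matrix.GeneralLinearGroup.det g ∈ normOne K q := by
  rw [mem_normOne φ hφq]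
  have h := congrArg Matrix.det hgU
  rw [Matrix.det_mul, Matrix.det_one, show conjT (n := n) φ (g : Matrix (Fin n) (Fin n) K) =
    ((g : Matrix (Fin n) (Fin n) K).map φ)ᵀ from rfl, Matrix.det_transpose, ← RingHom.mapMatrix_apply,
    ← RingHom.map_det, mul_comm] at h
  exact h

omit hw in
theorem card_fibre_su_le (hK : Fintype.card K = q ^ 2) (hw : ∃ w, φ w ≠ w) (v : ℕ → K[X]) :
    Nat.card {c : ConjClasses ↥(Cfsg.SU n K q) //
      lab (((Quotient.out c : ↥(Cfsg.SU n K q)) : Matrix.SpecialLinearGroup (Fin n) K) :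
        Matrix (Fin n) (Fin n) K) = v} ≤ uE q n v := by
  classical
  let toG : ↥(Cfsg.SU n K q) →* GL (Fin n) K :=
    Matrix.SpecialLinearGroup.toGL.comp (Cfsg.SU n K q).subtype
  have hU : ∀ g, conjT (n := n) φ (toG g : Matrix (Fin n) (Fin n) K) * toG g = 1 := fun g =>
    (Conj.mem_GU_iff φ hφq hφ (toG g)).1 g.2
  set Cl := {c : ConjClasses ↥(Cfsg.SU n K q) //
      lab (((Quotient.out c : ↥(Cfsg.SU n K q)) : Matrix.SpecialLinearGroup (Fin n) K) :
        Matrix (Fin n) (Fin n) K) = v}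
  rcases isEmpty_or_nonempty Cl with h | ⟨⟨c0, hc0⟩⟩
  · simp
  set G0 := toG (Quotient.out c0) with hG0
  set M := normOne K q
  let CU : Subgroup (GL (Fin n) K) := Cfsg.GU n K q ⊓ Subgroup.centralizer {G0}
  let W : Subgroup Kˣ := CU.map Matrix.GeneralLinearGroup.det
  have hmem : ∀ i, v i ≠ 1 → ∀ a : M, (a : Kˣ) ^ i ∈ W := by
    intro i hi a
    obtain ⟨C, h1, h2, h3⟩ := exists_unitary_commute_det hφq hφ hw G0 (hU _) (i := i)
      (by rw [show lab (G0 : Matrix (Fin n) (Fin n) K) = v from hc0]; exact hi) a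
    exact ⟨C, ⟨(Conj.mem_GU_iff φ hφq hφ C).2 h1, Subgroup.mem_centralizer_singleton_iff.2 h2⟩, h3⟩
  have hpow : ∀ a : M, (a : Kˣ) ^ uE q n v ∈ W := by
    intro a
    have h1 : ∀ b : M, (b : Kˣ) ^ (q + 1) ∈ W := fun b => by
      rw [show (b : Kˣ) ^ (q + 1) = 1 from b.2]; exact W.one_mem
    have hg : ∀ U : Finset ℕ, (∀ i ∈ U, v i ≠ 1) → ∀ b : M, (b : Kˣ) ^ U.gcd id ∈ W := by
      intro U
      induction U using Finset.induction_on with
      | empty => intro _ b; simp
      | insert x U hx ih =>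
        intro hT b
        rw [Finset.gcd_insert, id, gcd_eq_nat_gcd, ← zpow_natCast, Nat.gcd_eq_gcd_ab, _root_.zpow_add,
          mul_comm (x : ℤ), _root_.zpow_mul, mul_comm ((U.gcd id : ℕ) : ℤ), _root_.zpow_mul,
          zpow_natCast, zpow_natCast, ← SubgroupClass.coe_zpow, ← SubgroupClass.coe_zpow]
        exact W.mul_mem (hmem x (hT x (Finset.mem_insert_self x U)) _)
          (ih (fun i hi => hT i (Finset.mem_insert_of_mem hi)) _)
    rw [uE, ← zpow_natCast, Nat.gcd_eq_gcd_ab, _root_.zpow_add, mul_comm ((q + 1 : ℕ) : ℤ), _root_.zpow_mul,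
      mul_comm _ (Nat.gcdB _ _), _root_.zpow_mul, zpow_natCast, zpow_natCast,
      ← SubgroupClass.coe_zpow, ← SubgroupClass.coe_zpow]
    exact W.mul_mem (h1 _) (hg _ (fun i hi => (Finset.mem_filter.1 hi).2) _)
  have hidx : (powMonoidHom (uE q n v) : M →* M).range.index = uE q n v := by
    rw [IsCyclic.index_powMonoidHom_range, card_normOne hK, Nat.gcd_eq_right (uE_dvd_succ q n v)]
  have hconj : ∀ c : Cl, ∃ P : GL (Fin n) K,
      conjT (n := n) φ (P : Matrix (Fin n) (Fin n) K) * P = 1 ∧ P * G0 = toG (Quotient.out c.1) * P := by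
    intro c
    obtain ⟨P, hP⟩ := exists_conj_of_lab_eq G0 (toG (Quotient.out c.1)) (hc0.trans c.2.symm)
    exact Conj.exists_unitary_conj φ hφ hw G0 _ P (hU _) (hU _) (by rw [← hP]; group)
  choose P hPU hP using hconj
  rw [← hidx, Subgroup.index_eq_card]
  refine Nat.card_le_card_of_injective
    (fun c => (QuotientGroup.mk (⟨_, det_mem_normOne hφq (P c) (hPU c)⟩ : M) :
      M ⧸ (powMonoidHom (uE q n v) : M →* M).range)) ?_
  intro c d h
  obtain ⟨a, ha⟩ := QuotientGroup.eq.1 h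
  obtain ⟨C, ⟨hCU, hCc⟩, hCdet⟩ : ∃ C ∈ CU, Matrix.GeneralLinearGroup.det C =
      (Matrix.GeneralLinearGroup.det (P c))⁻¹ * Matrix.GeneralLinearGroup.det (P d) := by
    have h2 := hpow a
    rw [powMonoidHom_apply] at ha
    rw [← SubgroupClass.coe_pow, ha] at h2
    exact h2
  have hCc : C * G0 = G0 * C := Subgroup.mem_centralizer_singleton_iff.1 hCc
  set U := P d * C⁻¹ * (P c)⁻¹ with hUdef
  have hUdet : Matrix.GeneralLinearGroup.det U = 1 := by
    rw [hUdef, map_mul, map_mul, map_inv, map_inv, hCdet]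
    group
  have hUG : U ∈ Cfsg.GU n K q :=
    mul_mem (mul_mem ((Conj.mem_GU_iff φ hφq hφ _).2 (hPU d)) (inv_mem hCU))
      (inv_mem ((Conj.mem_GU_iff φ hφq hφ _).2 (hPU c)))
  let U' : ↥(Cfsg.SU n K q) := ⟨⟨(U : Matrix (Fin n) (Fin n) K), congrArg Units.val hUdet⟩, hUG⟩
  have hU' : toG U' = U := Units.ext rfl
  apply Subtype.ext
  rw [← Quotient.out_eq c.1, ← Quotient.out_eq d.1]
  refine Quotient.sound (isConj_iff.2 ⟨U', ?_⟩)
  have hinj : Function.Injective toG := Matrix.SpecialLinearGroup.toGL_injective.comp Subtype.val_injective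
  refine hinj ?_
  rw [map_mul, map_mul, map_inv, hU', hUdef]
  have e1 : toG (Quotient.out c.1) = P c * G0 * (P c)⁻¹ := by rw [hP c]; group
  have e2 : toG (Quotient.out d.1) = P d * G0 * (P d)⁻¹ := by rw [hP d]; group
  have e3 : C⁻¹ * G0 * C = G0 := by rw [mul_assoc, ← hCc, inv_mul_cancel_left]
  rw [e1, e2]
  calc P d * C⁻¹ * (P c)⁻¹ * (P c * G0 * (P c)⁻¹) * (P d * C⁻¹ * (P c)⁻¹)⁻¹
      = P d * (C⁻¹ * G0 * C) * (P d)⁻¹ := by group
    _ = P d * G0 * (P d)⁻¹ := by rw [e3]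

omit hφq hφ hw in
theorem card_conjClasses_su_le (hK : Fintype.card K = q ^ 2) (hn : 2 ≤ n) :
    100 * Nat.card (ConjClasses ↥(Cfsg.SU n K q)) ≤ 826 * q ^ (n - 1) := by
  classical
  obtain ⟨φ, hφq, hφ, hw⟩ := Conj.exists_frob hK
  have hq : 2 ≤ q := by
    by_contra h
    push Not at h
    have h1 := Fintype.one_lt_card (α := K)
    rw [hK] at h1
    interval_cases q <;> simp at h1
  have hle : (q + 1) * Nat.card (ConjClasses ↥(Cfsg.SU n K q)) ≤ uABound q n := by
    refine le_trans (le_trans (Nat.mul_le_mul_left _ ?_) (sum_uE_le φ hK hφq hφ hw n))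
      (sum_sq_le φ hK hφq hφ hw n (by omega))
    have : Fintype (ConjClasses ↥(Cfsg.SU n K q)) := Fintype.ofFinite _
    let f : ConjClasses ↥(Cfsg.SU n K q) → ℕ → K[X] := fun c =>
      lab (((Quotient.out c : ↥(Cfsg.SU n K q)) : Matrix.SpecialLinearGroup (Fin n) K) :
        Matrix (Fin n) (Fin n) K)
    rw [Nat.card_eq_fintype_card, ← Finset.card_univ]
    rw [Finset.card_eq_sum_card_fiberwise (f := f)
      (t := (uLabels φ n).filter (fun v => dTerm 1 n v = 1)) (fun c _ => ?_)]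
    · refine Finset.sum_le_sum fun v _ => le_trans ?_ (card_fibre_su_le hφq hφ hK hw v)
      rw [Nat.card_eq_fintype_card, Fintype.card_subtype]
    · have hdet : ((((Quotient.out c : ↥(Cfsg.SU n K q)) : Matrix.SpecialLinearGroup (Fin n) K) :
          Matrix (Fin n) (Fin n) K)).det = 1 := Matrix.SpecialLinearGroup.det_coe _
      have hu := (Conj.mem_GU_iff φ hφq hφ
        (Matrix.SpecialLinearGroup.toGL (Quotient.out c : ↥(Cfsg.SU n K q)).1)).1 (Quotient.out c).2
      refine Finset.mem_filter.2 ⟨(mem_uLabels φ).2 ⟨lab_isLabel (by rw [hdet]; exact one_ne_zero),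
        fun i => ?_⟩, by rw [dTerm_lab, hdet]⟩
      show sd φ (lab _ i) = lab _ i
      rw [lab_eq (exists_decomp _).some]
      exact label_sd _ hφ hu i
  refine Nat.le_of_mul_le_mul_left ?_ (Nat.succ_pos q)
  calc (q + 1) * (100 * Nat.card (ConjClasses ↥(Cfsg.SU n K q)))
      = 100 * ((q + 1) * Nat.card (ConjClasses ↥(Cfsg.SU n K q))) := by ring
    _ ≤ 100 * uABound q n := Nat.mul_le_mul_left _ hle
    _ ≤ (q + 1) * (826 * q ^ (n - 1)) := uABound_le hq hn

end CfsgLib.ClassNumSU
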