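import Cfsg.Agent.Lib.ClassNum.Count
import Cfsg.Agent.Lib.UnitaryCentralizer.Norm
import Cfsg.Agent.Lib.Semisimple.Unitary

/-! Polynomials fixed by the twisted reversal `P(X) ↦ X^d φ(P)(1/X) / φ(P(0))`, and their number. -/

set_option autoImplicit false

namespace CfsgLib.ClassNumSU

open Polynomial

variable {K : Type*} [Field K] (φ : K →+* K)

/-- The twisted reversal, normalised to be monic. -/
noncomputable def sd (P : K[X]) : K[X] := C (φ (P.coeff 0))⁻¹ * P.reverse.map φ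

theorem sd_one : sd φ (1 : K[X]) = 1 := by
  rw [sd, show (1 : K[X]) = C 1 from (C_1).symm, reverse_C, coeff_C_zero, Polynomial.map_C, map_one,
    inv_one, C_1, one_mul]

theorem sd_mul (P Q : K[X]) : sd φ (P * Q) = sd φ P * sd φ Q := by
  simp only [sd, mul_coeff_zero, reverse_mul_of_domain, Polynomial.map_mul, map_mul, mul_inv]
  ring

theorem sd_pow (P : K[X]) (e : ℕ) : sd φ (P ^ e) = sd φ P ^ e := by
  induction e with
  | zero => rw [pow_zero, pow_zero, sd_one]
  | succ e ih => rw [pow_succ, pow_succ, sd_mul, ih]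

theorem sd_prod {ι : Type*} (s : Finset ι) (f : ι → K[X]) :
    sd φ (∏ j ∈ s, f j) = ∏ j ∈ s, sd φ (f j) := by
  classical
  induction s using Finset.induction_on with
  | empty => exact sd_one φ
  | insert a s ha ih => rw [Finset.prod_insert ha, Finset.prod_insert ha, sd_mul, ih]

theorem coeff_sd {P : K[X]} {i : ℕ} (hi : i ≤ P.natDegree) :
    (sd φ P).coeff i = φ (P.coeff (P.natDegree - i)) / φ (P.coeff 0) := by
  rw [sd, coeff_C_mul, Polynomial.coeff_map, coeff_reverse, revAt_le hi, mul_comm, div_eq_mul_inv]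

theorem natDegree_sd {P : K[X]} (h0 : P.coeff 0 ≠ 0) : (sd φ P).natDegree = P.natDegree := by
  rw [sd, natDegree_C_mul (inv_ne_zero ((map_ne_zero φ).2 h0)), natDegree_map, reverse_natDegree,
    natTrailingDegree_eq_zero.2 (Or.inr h0), Nat.sub_zero]

theorem monic_sd {P : K[X]} (h0 : P.coeff 0 ≠ 0) : (sd φ P).Monic := by
  rw [Monic, leadingCoeff, natDegree_sd φ h0, coeff_sd φ le_rfl, Nat.sub_self,
    div_self ((map_ne_zero φ).2 h0)]

theorem coeff_zero_sd {P : K[X]} (hm : P.Monic) : (sd φ P).coeff 0 = (φ (P.coeff 0))⁻¹ := by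
  rw [coeff_sd φ (Nat.zero_le _), Nat.sub_zero, hm.coeff_natDegree, map_one, one_div]

theorem coeff_zero_sd_ne {P : K[X]} (hm : P.Monic) (h0 : P.coeff 0 ≠ 0) : (sd φ P).coeff 0 ≠ 0 := by
  rw [coeff_zero_sd φ hm]
  exact inv_ne_zero ((map_ne_zero φ).2 h0)

theorem sd_sd (hφ : ∀ x, φ (φ x) = x) {P : K[X]} (hm : P.Monic) (h0 : P.coeff 0 ≠ 0) :
    sd φ (sd φ P) = P := by
  have h1 := coeff_zero_sd_ne φ hm h0
  ext i
  by_cases hi : i ≤ P.natDegree
  · rw [coeff_sd φ (by rwa [natDegree_sd φ h0]), natDegree_sd φ h0, coeff_sd φ (Nat.sub_le _ _),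
      Nat.sub_sub_self hi, coeff_zero_sd φ hm, map_div₀, map_inv₀, hφ, hφ]
    field_simp
  · push Not at hi
    rw [coeff_eq_zero_of_natDegree_lt hi,
      coeff_eq_zero_of_natDegree_lt (by rwa [natDegree_sd φ h1, natDegree_sd φ h0])]

theorem irreducible_sd (hφ : ∀ x, φ (φ x) = x) {P : K[X]} (hm : P.Monic) (h0 : P.coeff 0 ≠ 0)
    (hP : Irreducible P) : Irreducible (sd φ P) := by
  refine ⟨fun h => hP.natDegree_pos.ne' ?_, fun a b hab => ?_⟩
  · rw [← natDegree_sd φ h0]; exact natDegree_eq_zero_of_isUnit h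
  · have hb : P = sd φ a * sd φ b := by rw [← sd_mul, ← hab, sd_sd φ hφ hm h0]
    have hc : a.coeff 0 * b.coeff 0 ≠ 0 := by
      rw [← mul_coeff_zero, ← hab]; exact coeff_zero_sd_ne φ hm h0
    obtain ⟨hca, hcb⟩ := mul_ne_zero_iff.1 hc
    rcases hP.isUnit_or_isUnit hb with h | h
    · left
      have h' := natDegree_eq_zero_of_isUnit h
      rw [natDegree_sd φ hca] at h'
      rw [eq_C_of_natDegree_eq_zero h']
      exact isUnit_C.2 (Ne.isUnit hca)
    · right
      have h' := natDegree_eq_zero_of_isUnit h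
      rw [natDegree_sd φ hcb] at h'
      rw [eq_C_of_natDegree_eq_zero h']
      exact isUnit_C.2 (Ne.isUnit hcb)

theorem norm_coeff_zero {P : K[X]} (hm : P.Monic) (h0 : P.coeff 0 ≠ 0) (hP : sd φ P = P) :
    P.coeff 0 * φ (P.coeff 0) = 1 := by
  conv_lhs => arg 1; rw [← hP, coeff_zero_sd φ hm]
  exact inv_mul_cancel₀ ((map_ne_zero φ).2 h0)

theorem coeff_symm {P : K[X]} (hm : P.Monic) (h0 : P.coeff 0 ≠ 0) (hP : sd φ P = P) {i : ℕ}
    (hi : i ≤ P.natDegree) : P.coeff i = φ (P.coeff (P.natDegree - i)) * P.coeff 0 := by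
  have h2 := eq_inv_of_mul_eq_one_left (norm_coeff_zero φ hm h0 hP)
  conv_lhs => rw [← hP, coeff_sd φ hi, div_eq_mul_inv, ← h2]

/-- Multiplication of the constant term by a norm one scalar `t = s / φ s`. -/
noncomputable def scl (s t : K) (P : K[X]) : K[X] :=
  C s * P + C (1 - s) * X ^ P.natDegree + C ((t - s) * P.coeff 0)

theorem coeff_scl (s t : K) (P : K[X]) (i : ℕ) :
    (scl s t P).coeff i = s * P.coeff i + (if i = P.natDegree then 1 - s else 0) +
      (if i = 0 then (t - s) * P.coeff 0 else 0) := by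
  simp only [scl, coeff_add, coeff_C_mul, coeff_X_pow, coeff_C, mul_ite, mul_one, mul_zero]

theorem scl_spec {s t : K} {P : K[X]} (hm : P.Monic) (hd : 0 < P.natDegree) :
    (scl s t P).Monic ∧ (scl s t P).natDegree = P.natDegree ∧
      (scl s t P).coeff 0 = t * P.coeff 0 := by
  have htop : (scl s t P).coeff P.natDegree = 1 := by
    rw [coeff_scl, if_pos rfl, if_neg hd.ne', hm.coeff_natDegree]; ring
  have hhi : ∀ i, P.natDegree < i → (scl s t P).coeff i = 0 := fun i hi => by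
    rw [coeff_scl, if_neg hi.ne', if_neg (by omega), coeff_eq_zero_of_natDegree_lt hi]; ring
  have hdeg : (scl s t P).natDegree = P.natDegree := by
    refine le_antisymm (natDegree_le_iff_coeff_eq_zero.2 hhi) (le_natDegree_of_ne_zero ?_)
    rw [htop]; exact one_ne_zero
  refine ⟨by rw [Monic, leadingCoeff, hdeg, htop], hdeg, ?_⟩
  rw [coeff_scl, if_neg hd.ne, if_pos rfl]; ring

theorem sd_scl {s t : K} {P : K[X]} (hst : φ s * t = s) (ht : t * φ t = 1) (hm : P.Monic)
    (hd : 0 < P.natDegree) (h0 : P.coeff 0 ≠ 0) (hP : sd φ P = P) :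
    sd φ (scl s t P) = scl s t P := by
  obtain ⟨hM, hdeg, hc0⟩ := scl_spec (s := s) (t := t) hm hd
  have ht0 : t ≠ 0 := fun h => by rw [h, zero_mul] at ht; exact zero_ne_one ht
  have hn := norm_coeff_zero φ hm h0 hP
  have hq0 : (scl s t P).coeff 0 ≠ 0 := by rw [hc0]; exact mul_ne_zero ht0 h0
  ext i
  rcases lt_trichotomy i P.natDegree with hi | rfl | hi
  · rcases Nat.eq_zero_or_pos i with rfl | hip
    · rw [coeff_zero_sd φ hM, hc0, map_mul]
      refine inv_eq_of_mul_eq_one_left ?_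
      linear_combination (t * φ t) * hn + ht
    · rw [coeff_sd φ (by omega), hdeg, hc0, coeff_scl, coeff_scl, if_neg (by omega), if_neg (by omega),
        if_neg hi.ne, if_neg hip.ne', add_zero, add_zero, add_zero, add_zero, map_mul, map_mul,
        coeff_symm φ hm h0 hP hi.le, div_eq_mul_inv,
        show (φ t * φ (P.coeff 0))⁻¹ = t * P.coeff 0 from
          inv_eq_of_mul_eq_one_left (by linear_combination (t * φ t) * hn + ht)]
      linear_combination (φ (P.coeff (P.natDegree - i)) * P.coeff 0) * hst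
  · rw [← hdeg, hM.coeff_natDegree]
    have := monic_sd φ hq0
    rw [Monic, leadingCoeff, natDegree_sd φ hq0] at this
    exact this
  · rw [coeff_eq_zero_of_natDegree_lt (by rwa [natDegree_sd φ hq0, hdeg]),
      coeff_eq_zero_of_natDegree_lt (by rwa [hdeg])]

theorem scl_injective {s t : K} (hs : s ≠ 0) (ht : t ≠ 0) {P Q : K[X]} (hP : P.Monic) (hQ : Q.Monic)
    (hdP : 0 < P.natDegree) (hdQ : 0 < Q.natDegree) (h : scl s t P = scl s t Q) : P = Q := by
  obtain ⟨-, d1, c1⟩ := scl_spec (s := s) (t := t) hP hdP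
  obtain ⟨-, d2, c2⟩ := scl_spec (s := s) (t := t) hQ hdQ
  have hdd : P.natDegree = Q.natDegree := by rw [← d1, ← d2, h]
  have hc : P.coeff 0 = Q.coeff 0 := mul_left_cancel₀ ht (by rw [← c1, ← c2, h])
  ext i
  have h1 := congrArg (fun f : K[X] => f.coeff i) h
  simp only [coeff_scl, hdd, hc, add_left_inj] at h1
  exact mul_left_cancel₀ hs h1

section Count

variable [Fintype K] {q : ℕ}

/-- The norm one scalars. -/
def normOne (K : Type*) [Field K] (q : ℕ) : Subgroup Kˣ := (powMonoidHom (q + 1) : Kˣ →* Kˣ).ker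

omit [Fintype K] in
theorem mem_normOne (hφq : ∀ x, φ x = x ^ q) {u : Kˣ} :
    u ∈ normOne K q ↔ (u : K) * φ u = 1 := by
  rw [normOne, MonoidHom.mem_ker, powMonoidHom_apply, ← Units.val_inj, Units.val_pow_eq_pow_val,
    Units.val_one, hφq, pow_succ']

theorem card_normOne (hK : Fintype.card K = q ^ 2) : Nat.card (normOne K q) = q + 1 := by
  rw [normOne, IsCyclic.card_powMonoidHom_ker, Nat.card_units, Nat.card_eq_fintype_card, hK]
  refine Nat.gcd_eq_right ?_
  refine ⟨q - 1, ?_⟩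
  rw [show q ^ 2 - 1 = q ^ 2 - 1 ^ 2 by norm_num, Nat.sq_sub_sq]

open Classical in
/-- The fixed monic polynomials of degree `d + 1`. -/
noncomputable def sdPolys (d : ℕ) : Finset K[X] :=
  (ClassNum.polys K d).filter fun P => P.Monic ∧ P.natDegree = d + 1 ∧ P.coeff 0 ≠ 0 ∧ sd φ P = P

theorem mem_sdPolys {P : K[X]} {d : ℕ} : P ∈ sdPolys φ d ↔
    P.Monic ∧ P.natDegree = d + 1 ∧ P.coeff 0 ≠ 0 ∧ sd φ P = P := by
  classical
  simp only [sdPolys, Finset.mem_filter]
  exact ⟨fun h => h.2, fun h => ⟨ClassNum.mem_polys h.1 h.2.1 h.2.2.1, h⟩⟩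

theorem card_sdPolys_le (hK : Fintype.card K = q ^ 2) (hφq : ∀ x, φ x = x ^ q)
    (hφ : ∀ x, φ (φ x) = x) (hw : ∃ w, φ w ≠ w) (d : ℕ) :
    (sdPolys φ d).card ≤ (q + 1) * q ^ d := by
  classical
  have hz : ∀ u : normOne K q, ∃ z : K, z ≠ 0 ∧ φ z * (u : Kˣ) = z := fun u =>
    CfsgLib.Semisimple.Unitary.exists_hilbert φ hφ hw _ ((mem_normOne φ hφq).1 u.2)
  choose z hz0 hz using hz
  let T := {y : Fin d → K // ∀ a, φ (y a.rev) = y a}
  have hT : Nat.card T = q ^ d := by
    obtain ⟨w, hw'⟩ := hw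
    rw [CfsgLib.UnitaryCentralizer.card_fixed_fun φ hφ hw' (q := q)
      (by rw [Nat.card_eq_fintype_card, hK]) Fin.rev Fin.rev_rev, Nat.card_eq_fintype_card, Fintype.card_fin]
  rw [← Nat.card_eq_finsetCard, ← card_normOne hK, ← hT, ← Nat.card_prod]
  have hfac : ∀ P : {P // P ∈ sdPolys φ d},
      ∃ u : normOne K q, ((u : Kˣ) : K) = P.1.coeff 0 := fun P => by
    obtain ⟨hm, -, h0, hP⟩ := (mem_sdPolys φ).1 P.2
    exact ⟨⟨Units.mk0 _ h0, (mem_normOne φ hφq).2 (norm_coeff_zero φ hm h0 hP)⟩, rfl⟩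
  choose u hu using hfac
  refine Nat.card_le_card_of_injective (fun P => (u P, (⟨fun a => P.1.coeff ((a : ℕ) + 1) / z (u P), ?_⟩ : T))) ?_
  · intro a
    obtain ⟨hm, hd, h0, hP⟩ := (mem_sdPolys φ).1 P.2
    beta_reduce
    rw [coeff_symm φ hm h0 hP (show (a : ℕ) + 1 ≤ P.1.natDegree by omega), hd,
      show d + 1 - ((a : ℕ) + 1) = (a.rev : ℕ) + 1 by rw [Fin.val_rev]; omega, ← hu P, map_div₀]
    have := hz (u P)
    have h1 : φ (z (u P)) ≠ 0 := (map_ne_zero φ).2 (hz0 _)
    rw [div_eq_div_iff h1 (hz0 _)]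
    linear_combination (-(φ (P.1.coeff ((a.rev : ℕ) + 1)))) * this
  · intro P Q h
    obtain ⟨hm, hd, -, -⟩ := (mem_sdPolys φ).1 P.2
    obtain ⟨hm', hd', -, -⟩ := (mem_sdPolys φ).1 Q.2
    have hu' : u P = u Q := congrArg Prod.fst h
    refine Subtype.ext (Polynomial.ext fun i => ?_)
    rcases Nat.lt_trichotomy i (d + 1) with hi | rfl | hi
    · rcases Nat.eq_zero_or_pos i with rfl | hip
      · rw [← hu P, ← hu Q, hu']
      · have h2 := congrFun (congrArg Subtype.val (congrArg Prod.snd h)) ⟨i - 1, by omega⟩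
        simp only [hu'] at h2
        rw [div_left_inj' (hz0 _), show i - 1 + 1 = i by omega] at h2
        exact h2
    · conv_lhs => rw [← hd, hm.coeff_natDegree]
      rw [← hd', hm'.coeff_natDegree]
    · rw [coeff_eq_zero_of_natDegree_lt (by omega), coeff_eq_zero_of_natDegree_lt (by omega)]

end Count

end CfsgLib.ClassNumSU
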