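import Cfsg.Agent.Lib.ClassNumSU.Star
import Cfsg.Agent.Lib.ClassNum.Summand

/-! The semilinear isomorphism `K[X]/(P) → K[X]/(sd P)` sending `X` to `1/X`. -/

set_option autoImplicit false
set_option linter.style.haveILetI false

namespace CfsgLib.ClassNumSU

open Polynomial

variable {K : Type*} [Field K] (φ : K →+* K)

theorem isUnit_root {Q : K[X]} (h0 : Q.coeff 0 ≠ 0) : IsUnit (AdjoinRoot.root Q) := by
  rw [← AdjoinRoot.mk_X]
  refine ClassNum.isUnit_mk_of_isCoprime (irreducible_X.coprime_iff_not_dvd.2 fun h => h0 ?_)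
  exact X_dvd_iff.1 h

/-- The inverse of the root. -/
noncomputable def rinv (Q : K[X]) : AdjoinRoot Q := Ring.inverse (AdjoinRoot.root Q)

theorem root_mul_rinv {Q : K[X]} (h0 : Q.coeff 0 ≠ 0) : AdjoinRoot.root Q * rinv Q = 1 :=
  Ring.mul_inverse_cancel _ (isUnit_root h0)

theorem eval₂_rinv {P Q : K[X]} (hQ : sd φ P = Q) (h0 : P.coeff 0 ≠ 0) (hQ0 : Q.coeff 0 ≠ 0) :
    eval₂ ((AdjoinRoot.of Q).comp φ) (rinv Q) P = 0 := by
  let y : AdjoinRoot Q := rinv Q
  letI : Invertible y :=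
    ⟨AdjoinRoot.root Q, root_mul_rinv hQ0, by rw [mul_comm]; exact root_mul_rinv hQ0⟩
  refine (eval₂_reverse_eq_zero_iff ((AdjoinRoot.of Q).comp φ) y P).1 ?_
  show eval₂ ((AdjoinRoot.of Q).comp φ) (AdjoinRoot.root Q) P.reverse = 0
  have h := AdjoinRoot.eval₂_root Q
  subst hQ
  conv at h => lhs; arg 3; rw [sd]
  rw [eval₂_mul, eval₂_C, eval₂_map] at h
  exact (IsUnit.mul_right_eq_zero (IsUnit.map _ (Ne.isUnit (inv_ne_zero ((map_ne_zero φ).2 h0))))).1 h

/-- The semilinear map sending the root to the inverse of the root. -/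
noncomputable def twist {P Q : K[X]} (hQ : sd φ P = Q) (h0 : P.coeff 0 ≠ 0) (hQ0 : Q.coeff 0 ≠ 0) :
    AdjoinRoot P →+* AdjoinRoot Q :=
  AdjoinRoot.lift ((AdjoinRoot.of Q).comp φ) (rinv Q) (eval₂_rinv φ hQ h0 hQ0)

variable {P Q : K[X]} (hQ : sd φ P = Q) (h0 : P.coeff 0 ≠ 0) (hQ0 : Q.coeff 0 ≠ 0)

theorem twist_root : twist φ hQ h0 hQ0 (AdjoinRoot.root P) = rinv Q := AdjoinRoot.lift_root _

theorem twist_of (c : K) : twist φ hQ h0 hQ0 (AdjoinRoot.of P c) = AdjoinRoot.of Q (φ c) :=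
  AdjoinRoot.lift_of _

theorem twist_smul (c : K) (b : AdjoinRoot P) :
    twist φ hQ h0 hQ0 (c • b) = φ c • twist φ hQ h0 hQ0 b := by
  rw [Algebra.smul_def, map_mul, Algebra.smul_def, AdjoinRoot.algebraMap_eq, twist_of,
    AdjoinRoot.algebraMap_eq]

theorem twist_rinv : twist φ hQ h0 hQ0 (rinv P) = AdjoinRoot.root Q := by
  have h1 : rinv Q * twist φ hQ h0 hQ0 (rinv P) = 1 := by
    rw [← twist_root φ hQ h0 hQ0, ← map_mul, root_mul_rinv h0, map_one]
  calc twist φ hQ h0 hQ0 (rinv P) = AdjoinRoot.root Q * rinv Q * twist φ hQ h0 hQ0 (rinv P) := by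
        rw [root_mul_rinv hQ0, one_mul]
    _ = AdjoinRoot.root Q := by rw [mul_assoc, h1, mul_one]

theorem twist_twist (hφ : ∀ x, φ (φ x) = x) (hP : sd φ Q = P) (b : AdjoinRoot P) :
    twist φ hP hQ0 h0 (twist φ hQ h0 hQ0 b) = b := by
  obtain ⟨f, rfl⟩ := AdjoinRoot.mk_surjective b
  induction f using Polynomial.induction_on with
  | C a => rw [AdjoinRoot.mk_C, twist_of, twist_of, hφ]
  | add f g hf hg => rw [map_add, map_add, map_add, hf, hg]
  | monomial k a ih =>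
    rw [pow_succ, ← mul_assoc, map_mul, map_mul, map_mul, ih, AdjoinRoot.mk_X, twist_root, twist_rinv]

theorem twist_surjective (hφ : ∀ x, φ (φ x) = x) (hm : P.Monic) :
    Function.Surjective (twist φ hQ h0 hQ0) := fun b =>
  ⟨twist φ (hQ ▸ sd_sd φ hφ hm h0) hQ0 h0 b, twist_twist φ _ hQ0 h0 hφ hQ b⟩

theorem norm_twist [Finite K] (hm : P.Monic) (b : AdjoinRoot P) :
    Algebra.norm K (twist φ hQ h0 hQ0 b) = φ (Algebra.norm K b) := by
  have hPm : (P.map φ).Monic := hm.map φ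
  have hQm : Q.Monic := hQ ▸ monic_sd φ h0
  have hdim : (P.map φ).natDegree = Q.natDegree := by rw [natDegree_map, ← hQ, natDegree_sd φ h0]
  haveI := ClassNum.finiteDimensional_adjoinRoot hPm
  haveI := ClassNum.finiteDimensional_adjoinRoot hQm
  haveI : Finite (AdjoinRoot Q) := Module.finite_of_finite K
  let ψ : AdjoinRoot (P.map φ) →ₐ[K] AdjoinRoot Q :=
    AdjoinRoot.liftAlgHom (P.map φ) (Algebra.ofId K _) (rinv Q) (by
      rw [eval₂_map]; exact eval₂_rinv φ hQ h0 hQ0)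
  have hψr : ψ (AdjoinRoot.root (P.map φ)) = rinv Q := by simp [ψ]
  have hsurj : Function.Surjective ψ := by
    have hroot : AdjoinRoot.root Q ∈ ψ.range := by
      let y : (AdjoinRoot Q)ˣ := Units.mkOfMulEqOne (rinv Q) (AdjoinRoot.root Q)
        (by rw [mul_comm]; exact root_mul_rinv hQ0)
      obtain ⟨k, hk⟩ : ∃ k : ℕ, y ^ k = y⁻¹ :=
        mem_powers_iff_mem_zpowers.2 (Subgroup.inv_mem _ (Subgroup.mem_zpowers y))
      rw [show AdjoinRoot.root Q = ((y⁻¹ : (AdjoinRoot Q)ˣ) : AdjoinRoot Q) from rfl, ← hk,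
        Units.val_pow_eq_pow_val]
      have hy : rinv Q ∈ ψ.range := AlgHom.mem_range ψ |>.2 ⟨_, hψr⟩
      exact pow_mem hy k
    intro z
    obtain ⟨f, rfl⟩ := AdjoinRoot.mk_surjective z
    have hmem : AdjoinRoot.mk Q f ∈ ψ.range := by
      rw [← AdjoinRoot.aeval_eq]
      exact (Algebra.adjoin_le (S := ψ.range) (by simpa using hroot))
        (aeval_mem_adjoin_singleton K _)
    exact hmem
  have hbij : Function.Bijective ψ := by
    refine ⟨?_, hsurj⟩
    exact (LinearMap.injective_iff_surjective_of_finrank_eq_finrank (f := ψ.toLinearMap)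
      (by rw [ClassNum.finrank_adjoinRoot hPm, ClassNum.finrank_adjoinRoot hQm, hdim])).2 hsurj
  obtain ⟨h, rfl⟩ := AdjoinRoot.mk_surjective b
  have he : twist φ hQ h0 hQ0 (AdjoinRoot.mk P h) = AlgEquiv.ofBijective ψ hbij (AdjoinRoot.mk _ (h.map φ)) := by
    show AdjoinRoot.lift _ _ _ (AdjoinRoot.mk P h) = ψ (AdjoinRoot.mk _ (h.map φ))
    rw [AdjoinRoot.lift_mk, ← AdjoinRoot.aeval_eq, ← aeval_algHom_apply, hψr, aeval_def, eval₂_map]
    rfl
  rw [he, Algebra.norm_eq_of_algEquiv]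
  have key : ∀ {R : K[X]} (hR : R.Monic) (f : K[X]),
      ∃ A : Matrix (Fin (AdjoinRoot.powerBasis' hR).dim) (Fin (AdjoinRoot.powerBasis' hR).dim) K,
        A.charpoly = R ∧ Algebra.norm K (AdjoinRoot.mk R f) = (aeval A f).det := by
    intro R hR f
    refine ⟨Algebra.leftMulMatrix (AdjoinRoot.powerBasis' hR).basis (AdjoinRoot.root R), ?_, ?_⟩
    · have h1 := charpoly_leftMulMatrix (AdjoinRoot.powerBasis' hR)
      rw [AdjoinRoot.powerBasis'_gen] at h1
      rw [h1, AdjoinRoot.minpoly_root hR.ne_zero, hR.leadingCoeff, inv_one, C_1, mul_one]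
    · rw [Algebra.norm_eq_matrix_det (AdjoinRoot.powerBasis' hR).basis,
        aeval_algHom_apply, AdjoinRoot.aeval_eq]
  obtain ⟨A, hA, hA'⟩ := key hm h
  obtain ⟨B, hB, hB'⟩ := key hPm (h.map φ)
  rw [hA', hB', ClassNum.det_aeval_of_charpoly_eq_pow B (φ.mapMatrix A) 1
    (by rw [pow_one, hB, RingHom.mapMatrix_apply, Matrix.charpoly_map, hA]), pow_one, φ.map_det,
    RingHom.mapMatrix_apply, RingHom.mapMatrix_apply]
  congr 1
  rw [aeval_def, eval₂_map, aeval_def]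
  refine Eq.symm ((Polynomial.hom_eval₂ h (algebraMap K _) φ.mapMatrix A).trans ?_)
  congr 1
  refine RingHom.ext fun c => ?_
  ext i j
  simp [Matrix.algebraMap_matrix_apply, apply_ite φ]

end CfsgLib.ClassNumSU
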